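import Cfsg.Agent.Lib.SolvLinear.Exceptional

/-!
# Solvable linear groups transitive on nonzero vectors: dimension two and index two subgroups
-/

set_option autoImplicit false

namespace Cfsg.Agent.Lib.SolvLinear

open Cfsg

/-- A homomorphism to a commutative group with image of even order yields a subgroup of index two. -/
theorem exists_index_two_of_hom {G A : Type*} [Group G] [Finite G] [Group A] (f : G →* A)
    (hA : IsMulCommutative f.range) (h2 : 2 ∣ Nat.card f.range) :
    ∃ N : Subgroup G, N.Normal ∧ N.index = 2 := by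
  letI : CommGroup f.range := { mul_comm := hA.is_comm.comm }
  haveI : Finite f.range := Finite.of_surjective f.rangeRestrict f.rangeRestrict_surjective
  haveI : Fact (Nat.Prime 2) := ⟨Nat.prime_two⟩
  have hne : (powMonoidHom 2 : f.range →* f.range).range ≠ ⊤ := by
    intro h
    obtain ⟨z, hz⟩ := exists_prime_orderOf_dvd_card' 2 h2
    have hinj := Finite.injective_iff_surjective.2 (MonoidHom.range_eq_top.1 h)
    have hz1 : z = 1 := hinj (by
      show z ^ 2 = 1 ^ 2
      rw [← hz, pow_orderOf_eq_one, one_pow])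
    rw [hz1, orderOf_one] at hz
    omega
  obtain ⟨M, hM, hle⟩ := (eq_top_or_exists_le_coatom _).resolve_left hne
  obtain ⟨a, ha⟩ : ∃ a, a ∉ M := by
    by_contra hc
    push Not at hc
    exact hM.1 (eq_top_iff.2 fun x _ => hc x)
  have hsq : ∀ x : f.range, x ^ 2 ∈ M := fun x => hle ⟨x, rfl⟩
  let M' : Subgroup f.range :=
    { carrier := {x | x ∈ M ∨ x * a ∈ M}
      one_mem' := Or.inl M.one_mem
      mul_mem' := fun {x y} hx hy => by
        rcases hx with hx | hx <;> rcases hy with hy | hy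
        · exact Or.inl (M.mul_mem hx hy)
        · exact Or.inr (by rw [mul_assoc]; exact M.mul_mem hx hy)
        · exact Or.inr (by rw [mul_right_comm]; exact M.mul_mem hx hy)
        · refine Or.inl ?_
          have h : x * y = (x * a) * (y * a) * (a ^ 2)⁻¹ := by
            rw [mul_mul_mul_comm, ← pow_two, mul_inv_cancel_right]
          rw [h]
          exact M.mul_mem (M.mul_mem hx hy) (M.inv_mem (hsq a))
      inv_mem' := fun {x} hx => by
        rcases hx with hx | hx
        · exact Or.inl (M.inv_mem hx)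
        · refine Or.inr ?_
          have h : x⁻¹ * a = (x ^ 2)⁻¹ * (x * a) := by rw [pow_two, mul_inv, mul_assoc, inv_mul_cancel_left]
          rw [h]
          exact M.mul_mem (M.inv_mem (hsq x)) hx }
  have htop : M' = ⊤ :=
    hM.2 M' (lt_of_le_of_ne (fun x hx => Or.inl hx) fun he =>
      ha (he ▸ (Or.inr (by rw [← pow_two]; exact hsq a) : a ∈ M')))
  refine ⟨M.comap f.rangeRestrict, inferInstance, ?_⟩
  rw [Subgroup.index_comap_of_surjective _ f.rangeRestrict_surjective, Subgroup.index_eq_two_iff]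
  refine ⟨a, fun b => ?_⟩
  have hb : b ∈ M' := htop ▸ Subgroup.mem_top b
  rcases hb with hb | hb
  · exact Or.inr ⟨hb, fun h => ha (by simpa using M.mul_mem (M.inv_mem hb) h)⟩
  · exact Or.inl ⟨hb, fun h => ha (by simpa using M.mul_mem (M.inv_mem h) hb)⟩

variable {q : ℕ} [hq : Fact q.Prime] {V : Type*} [AddCommGroup V] [Module (ZMod q) V] [Finite V]
  [Nontrivial V] {G : Type*} [Group G] [Finite G] {ρ : G →* (V ≃ₗ[ZMod q] V)}

/-- In odd characteristic a semilinear transitive group has a subgroup of index two. -/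
theorem IsSemilinear.exists_index_two (hρ : Function.Injective ρ) (ht : IsVecTransitive ρ)
    (h : IsSemilinear ρ) (hq2 : q ≠ 2) : ∃ N : Subgroup G, N.Normal ∧ N.index = 2 := by
  obtain ⟨A, hAn, hA, hk⟩ := h
  haveI := hAn
  haveI : Fact (Nat.Prime 2) := ⟨Nat.prime_two⟩
  haveI : Finite (Module.End (ZMod q) V) :=
    Finite.of_injective (fun f : Module.End (ZMod q) V => ⇑f) DFunLike.coe_injective
  haveI hfa : Finite (alg ρ A ≃ₐ[ZMod q] alg ρ A) :=
    Finite.of_injective (fun e : alg ρ A ≃ₐ[ZMod q] alg ρ A => ⇑e) DFunLike.coe_injective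
  letI := (isField_alg ht A hA).toField
  haveI : IsCyclic (alg ρ A ≃ₐ[ZMod q] alg ρ A) := inferInstance
  letI : CommGroup (alg ρ A ≃ₐ[ZMod q] alg ρ A) := IsCyclic.commGroup
  by_cases h2 : 2 ∣ Nat.card (conjAut ρ A).range
  · exact exists_index_two_of_hom (conjAut ρ A) ⟨⟨fun a b => Subtype.ext (mul_comm _ _)⟩⟩ h2
  -- a Sylow `2`-subgroup lies in the multiplicative group of the field
  have hscal : ∀ y : G, conjAut ρ A y = 1 → endHom ρ y ∈ alg ρ A := by
    intro y hy
    obtain ⟨v0, hv0⟩ := exists_ne (0 : V)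
    have hcomm : ∀ c ∈ alg ρ A, Commute (endHom ρ y) c := fun c hc =>
      alg_commute_of_commute ρ
        (fun a ha => Commute.map ((conjAut_eq_one_iff hρ A y).1 hy a ha) (endHom ρ)) hc
    let f : alg ρ A → V := fun c => (c : Module.End (ZMod q) V) v0
    have hf : Function.Injective f := by
      intro c d hcd
      rcases eq_zero_or_isUnit ht A hA (sub_mem c.2 d.2) with h0 | ⟨b, hb, hb1⟩
      · exact Subtype.ext (sub_eq_zero.1 h0)
      · exfalso
        apply hv0
        have h3 := LinearMap.congr_fun ((alg_commute ρ hA (sub_mem c.2 d.2) hb).symm.eq.trans hb1) v0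
        rw [Module.End.mul_apply, LinearMap.sub_apply,
          show (c : Module.End (ZMod q) V) v0 = (d : Module.End (ZMod q) V) v0 from hcd, sub_self,
          map_zero] at h3
        exact h3.symm
    have hbij : Function.Bijective f := hf.bijective_of_nat_card_le <| by
      rw [natCard_alg ht A hA, hk, card_eq_pow (q := q) (V := V)]
    obtain ⟨l, hl⟩ := hbij.2 (endHom ρ y v0)
    have : endHom ρ y = l := by
      refine LinearMap.ext fun v => ?_
      obtain ⟨c, rfl⟩ := hbij.2 v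
      calc endHom ρ y ((c : Module.End (ZMod q) V) v0)
          = (c : Module.End (ZMod q) V) (endHom ρ y v0) := LinearMap.congr_fun (hcomm c c.2).eq v0
        _ = (c : Module.End (ZMod q) V) ((l : Module.End (ZMod q) V) v0) := by rw [← hl]
        _ = (l : Module.End (ZMod q) V) ((c : Module.End (ZMod q) V) v0) :=
            LinearMap.congr_fun (alg_commute ρ hA c.2 l.2).eq v0
    rw [this]
    exact l.2
  obtain ⟨P⟩ := (inferInstance : Nonempty (Sylow 2 G))
  have hP1 : ∀ y ∈ (P : Subgroup G), conjAut ρ A y = 1 := by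
    intro y hy
    obtain ⟨k, hk⟩ := P.2 ⟨y, hy⟩
    have h1 : orderOf (conjAut ρ A y) ∣ 2 ^ k := orderOf_dvd_of_pow_eq_one (by
      rw [← map_pow, show y ^ 2 ^ k = 1 by simpa using congrArg Subtype.val hk, map_one])
    have h2' : orderOf (conjAut ρ A y) ∣ Nat.card (conjAut ρ A).range :=
      Subgroup.orderOf_dvd_natCard _ ⟨y, rfl⟩
    obtain ⟨i, -, hi⟩ := (Nat.dvd_prime_pow Nat.prime_two).1 h1
    rcases Nat.eq_zero_or_pos i with rfl | hi0
    · exact orderOf_eq_one_iff.1 (by simpa using hi)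
    · exact absurd ((dvd_pow_self 2 hi0.ne').trans (hi ▸ h2')) h2
  let g : (P : Subgroup G) →* alg ρ A :=
    { toFun := fun y => ⟨endHom ρ y, hscal y (hP1 y y.2)⟩
      map_one' := Subtype.ext (map_one _)
      map_mul' := fun a b => Subtype.ext (map_mul (endHom ρ) _ _) }
  have hcyc : IsCyclic (P : Subgroup G) := isCyclic_of_subgroup_isDomain g fun a b hab =>
    Subtype.ext (endHom_injective ρ hρ (congrArg Subtype.val hab))
  have heven : 2 ∣ Nat.card G := by
    refine dvd_trans ?_ (pow_sub_one_dvd_card ht)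
    obtain ⟨t, ht'⟩ := (hq.out.odd_of_ne_two hq2).pow (n := Module.finrank (ZMod q) V)
    omega
  have hmin : (Nat.card G).minFac = 2 := Nat.minFac_eq_two_iff _ |>.2 heven
  letI : CommGroup (P : Subgroup G) := IsCyclic.commGroup
  have hcompl := IsCyclic.isComplement' hmin hcyc
  refine exists_index_two_of_hom (MonoidHom.transferSylow P (hcyc.normalizer_le_centralizer hmin))
    ⟨⟨fun a b => Subtype.ext (mul_comm _ _)⟩⟩ ?_
  rw [← Subgroup.index_ker, hcompl.symm.index_eq_card]
  exact P.dvd_card_of_dvd_card heven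

theorem mem_of_pow_eq_one {Z P0 : Subgroup G} {p : ℕ} [hp : Fact p.Prime] (hcyc : IsCyclic Z)
    (hP : Nat.card P0 = p) (hle : P0 ≤ Z) {z : G} (hz : z ∈ Z) (hzp : z ^ p = 1) : z ∈ P0 := by
  classical
  haveI := Fintype.ofFinite Z
  have hsub : Finset.univ.filter (fun x : Z => (x : G) ∈ P0) ⊆
      Finset.univ.filter (fun x : Z => x ^ p = 1) := by
    intro x hx
    simp only [Finset.mem_filter, Finset.mem_univ, true_and] at hx ⊢
    refine Subtype.ext ?_
    have : (⟨x, hx⟩ : P0) ^ p = 1 := hP ▸ pow_card_eq_one'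
    simpa using congrArg Subtype.val this
  have heq := Finset.eq_of_subset_of_card_le hsub <| by
    refine (IsCyclic.card_pow_eq_one_le (n := p) hp.out.pos).trans (le_of_eq ?_)
    rw [← Fintype.card_subtype, ← Nat.card_eq_fintype_card, ← hP]
    exact Nat.card_congr
      { toFun := fun x => ⟨⟨x, hle x.2⟩, x.2⟩
        invFun := fun x => ⟨x.1.1, x.2⟩
        left_inv := fun _ => rfl
        right_inv := fun _ => rfl }
  have hzm : (⟨z, hz⟩ : Z) ∈ Finset.univ.filter (fun x : Z => x ^ p = 1) := by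
    simp only [Finset.mem_filter, Finset.mem_univ, true_and]
    exact Subtype.ext hzp
  rw [← heq] at hzm
  simpa using hzm

/-- The structure of a class two subgroup `D` with `|D : Z(D)| = 4`. -/
theorem four_cosets {D : Subgroup G}
    (hm : Nat.card D = 4 * Nat.card ↥(D ⊓ Subgroup.centralizer (D : Set G))) {a b : G} (ha : a ∈ D)
    (hb : b ∈ D) (hab : a * b ≠ b * a) : ∀ d ∈ D,
      ∃ i j : Fin 2, ∃ z ∈ D ⊓ Subgroup.centralizer (D : Set G), d = a ^ (i : ℕ) * b ^ (j : ℕ) * z := by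
  set Z := D ⊓ Subgroup.centralizer (D : Set G) with hZ
  have hzd : ∀ z ∈ Z, ∀ d ∈ D, Commute z d := fun z hz d hd =>
    (Subgroup.mem_centralizer_iff.1 (Subgroup.mem_inf.1 hz).2 d hd).symm
  let f : Fin 2 × Fin 2 × Z → D := fun x => ⟨a ^ (x.1 : ℕ) * b ^ (x.2.1 : ℕ) * x.2.2,
    D.mul_mem (D.mul_mem (D.pow_mem ha _) (D.pow_mem hb _)) x.2.2.2.1⟩
  have hf : Function.Injective f := by
    rintro ⟨i, j, z⟩ ⟨i', j', z'⟩ h
    have h' : a ^ (i : ℕ) * b ^ (j : ℕ) * z = a ^ (i' : ℕ) * b ^ (j' : ℕ) * z' := congrArg Subtype.val h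
    have hw : ((z' : G) * (z : G)⁻¹) ∈ Z := Z.mul_mem z'.2 (Z.inv_mem z.2)
    have h'' : a ^ (i : ℕ) * b ^ (j : ℕ) = a ^ (i' : ℕ) * b ^ (j' : ℕ) * ((z' : G) * (z : G)⁻¹) := by
      rw [← mul_assoc, ← h', mul_inv_cancel_right]
    generalize (z' : G) * (z : G)⁻¹ = w at hw h''
    have hwa : Commute w a := hzd w hw a ha
    have hwb : Commute w b := hzd w hw b hb
    have hi : i = i' := by
      by_contra hne
      have hcb : ∀ j j' : ℕ, Commute (b ^ j * w⁻¹ * (b ^ j')⁻¹) b := fun j j' =>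
        (((Commute.refl b).pow_left j).mul_left hwb.inv_left).mul_left ((Commute.refl b).pow_left j').inv_left
      have hcb' : ∀ j j' : ℕ, Commute (b ^ j' * w * (b ^ j)⁻¹) b := fun j j' =>
        (((Commute.refl b).pow_left j').mul_left hwb).mul_left ((Commute.refl b).pow_left j).inv_left
      apply hab
      fin_cases i <;> fin_cases i' <;> simp at hne ⊢ <;> simp only [pow_zero, pow_one, one_mul] at h''
      · show Commute a b
        have : a = b ^ (j : ℕ) * w⁻¹ * (b ^ (j' : ℕ))⁻¹ := by rw [h'']; group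
        rw [this]; exact hcb _ _
      · show Commute a b
        have : a = b ^ (j' : ℕ) * w * (b ^ (j : ℕ))⁻¹ := by rw [← h'']; group
        rw [this]; exact hcb' _ _
    subst hi
    have key : i = i ∧ j = j' := by
      refine ⟨rfl, ?_⟩
      by_contra hne
      rw [mul_assoc] at h''
      have h3 := mul_left_cancel h''
      apply hab
      fin_cases j <;> fin_cases j' <;> simp at hne ⊢ <;> simp only [pow_zero, pow_one, one_mul] at h3
      · show Commute a b
        have : b = w⁻¹ := by rw [eq_inv_iff_mul_eq_one, ← h3]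
        rw [this]; exact hwa.symm.inv_right
      · show Commute a b
        rw [h3]; exact hwa.symm
    obtain ⟨-, rfl⟩ := key
    exact Prod.ext rfl (Prod.ext rfl (Subtype.ext (mul_left_cancel h')))
  have hbij : Function.Bijective f := hf.bijective_of_nat_card_le <| le_of_eq <| by
    rw [Nat.card_prod, Nat.card_prod, Nat.card_fin, hm]; ring
  intro d hd
  obtain ⟨⟨i, j, z⟩, hz⟩ := hbij.2 ⟨d, hd⟩
  exact ⟨i, j, z, z.2, (congrArg Subtype.val hz).symm⟩

/-- Non-semilinear transitive solvable groups in dimension two. -/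
theorem two_dichotomy [Group.IsSolvable G] (hρ : Function.Injective ρ) (ht : IsVecTransitive ρ)
    (hns : ¬ IsSemilinear ρ) (hn : Module.finrank (ZMod q) V = 2) :
    Nat.card G ∣ 24 * (q - 1) ∧ 2 ∣ q - 1 ∧
    ((∃ N : Subgroup G, N.Normal ∧ N.index = 2) ∨
      ∃ D : Subgroup G, ∃ a ∈ D, ∃ b ∈ D, IsClassTwo 2 D ∧ a * b ≠ b * a ∧
        Nat.card D = 4 * Nat.card ↥(D ⊓ Subgroup.centralizer (D : Set G)) ∧
        Nat.card G = 12 * Nat.card ↥(Subgroup.centralizer (D : Set G)) ∧
        Nat.card ↥(Subgroup.centralizer (D : Set G)) ∣ q - 1 ∧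
        (∀ z ∈ Subgroup.centralizer (D : Set G), ∀ g : G, g * z = z * g) ∧
        ∀ t : G, t ^ 3 = 1 → t ∉ Subgroup.centralizer (D : Set G) → ∀ d ∈ D,
          d ∉ D ⊓ Subgroup.centralizer (D : Set G) →
          t * d * t⁻¹ * d⁻¹ ∉ D ⊓ Subgroup.centralizer (D : Set G)) := by
  classical
  obtain ⟨D, h2, hne, hm, hC, hq2, hCcen, hcen⟩ := exists_classTwo_two hρ ht hns hn
  haveI := h2.normal
  set Z := D ⊓ Subgroup.centralizer (D : Set G) with hZ
  set C := Subgroup.centralizer (D : Set G) with hCdef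
  have hzc := center_comm (G := G) D
  have hzcen : ∀ z ∈ Z, ∀ g : G, g * z = z * g := hcen Z inferInstance hzc
  have hcyc := isCyclic_normal_abelian ht Z hzc hρ
  obtain ⟨P0, hP0, hP0Z, hcomm⟩ := h2.exists_center_prime hne hcyc
  obtain ⟨a, ha, hna⟩ := SetLike.not_le_iff_exists.1 hne
  rw [Subgroup.mem_centralizer_iff] at hna
  push Not at hna
  obtain ⟨b, hb, hba⟩ := hna
  have hab : a * b ≠ b * a := fun h => hba h.symm
  have hDn := h2.normal
  let S : Subgroup D := Z.subgroupOf D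
  haveI hSn : S.Normal := by show (Z.subgroupOf D).Normal; infer_instance
  have hSmap : ∀ g : G, S.map (MulAut.conjNormal (H := D) g).toMonoidHom = S := fun g => by
    refine le_antisymm ?_ ?_
    · rintro _ ⟨d, hd, rfl⟩
      show ((MulAut.conjNormal g d : D) : G) ∈ Z
      rw [MulAut.conjNormal_apply, hzcen (d : G) (Subgroup.mem_subgroupOf.1 hd) g, mul_inv_cancel_right]
      exact hd
    · intro d hd
      refine ⟨d, hd, Subtype.ext ?_⟩
      show ((MulAut.conjNormal g d : D) : G) = d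
      rw [MulAut.conjNormal_apply, hzcen (d : G) (Subgroup.mem_subgroupOf.1 hd) g, mul_inv_cancel_right]
  let act : G → (D ⧸ S) ≃* (D ⧸ S) := fun g => QuotientGroup.congr S S (MulAut.conjNormal g) (hSmap g)
  have hact : ∀ (g : G) (d : D), act g (d : D ⧸ S) = ((MulAut.conjNormal g d : D) : D ⧸ S) :=
    fun g d => rfl
  let ψ : G →* Equiv.Perm {x : D ⧸ S // x ≠ 1} :=
    { toFun := fun g => (act g).toEquiv.subtypeEquiv fun x => (not_congr (act g).map_eq_one_iff).symm
      map_one' := Equiv.ext fun x => Subtype.ext <| by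
        obtain ⟨x, hx⟩ := x
        obtain ⟨d, rfl⟩ := QuotientGroup.mk_surjective x
        show act 1 (d : D ⧸ S) = _
        rw [hact, map_one]
        rfl
      map_mul' := fun g g' => Equiv.ext fun x => Subtype.ext <| by
        obtain ⟨x, hx⟩ := x
        obtain ⟨d, rfl⟩ := QuotientGroup.mk_surjective x
        show act (g * g') (d : D ⧸ S) = act g (act g' d)
        rw [hact, hact, hact, map_mul]
        rfl }
  have hmemN : ∀ g : G, g ∈ ψ.ker ↔ ∀ d ∈ D, g * d * g⁻¹ * d⁻¹ ∈ Z := by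
    intro g
    constructor
    · intro hg d hd
      by_cases hdz : d ∈ Z
      · rw [hzcen d hdz g, mul_inv_cancel_right, mul_inv_cancel]; exact Z.one_mem
      · have h1 := congrArg Subtype.val (Equiv.congr_fun (MonoidHom.mem_ker.1 hg)
          ⟨((⟨d, hd⟩ : D) : D ⧸ S), fun h => hdz ((QuotientGroup.eq_one_iff (N := S) _).1 h)⟩)
        have h2' : (((MulAut.conjNormal g ⟨d, hd⟩ : D) : D ⧸ S)) = ((⟨d, hd⟩ : D) : D ⧸ S) := h1
        rw [QuotientGroup.eq_iff_div_mem, div_eq_mul_inv] at h2'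
        exact h2'
    · intro hg
      refine MonoidHom.mem_ker.2 (Equiv.ext fun x => Subtype.ext ?_)
      obtain ⟨x, hx⟩ := x
      obtain ⟨d, rfl⟩ := QuotientGroup.mk_surjective x
      show act g (d : D ⧸ S) = (d : D ⧸ S)
      rw [hact, QuotientGroup.eq_iff_div_mem, div_eq_mul_inv]
      exact hg d d.2
  have hcard4 : Nat.card (D ⧸ S) = 4 := by
    have h1 := Subgroup.card_eq_card_quotient_mul_card_subgroup S
    rw [Nat.card_congr (Subgroup.subgroupOfEquivOfLe (show Z ≤ D from inf_le_left)).toEquiv, hm] at h1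
    exact (Nat.eq_of_mul_eq_mul_right Nat.card_pos h1).symm
  haveI : Fintype {x : D ⧸ S // x ≠ 1} := Fintype.ofFinite _
  have hX3 : Fintype.card {x : D ⧸ S // x ≠ 1} = 3 := by
    rw [← Nat.card_eq_fintype_card]
    have h := Set.ncard_compl ({1} : Set (D ⧸ S))
    rw [Set.ncard_singleton, hcard4] at h
    exact h
  have hPerm : Nat.card (Equiv.Perm {x : D ⧸ S // x ≠ 1}) = 6 := by
    rw [Nat.card_eq_fintype_card, Fintype.card_perm, hX3]; rfl
  -- the kernel modulo the centraliser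
  have hval : ∀ g ∈ ψ.ker, ∀ d ∈ D, g * d * g⁻¹ * d⁻¹ ∈ P0 := by
    intro g hg d hd
    have hz := (hmemN g).1 hg d hd
    refine mem_of_pow_eq_one hcyc hP0 hP0Z hz ?_
    set z := g * d * g⁻¹ * d⁻¹ with hzdef
    have h1 : g * d * g⁻¹ = z * d := by rw [hzdef]; group
    have hd2 : d ^ 2 ∈ Z := h2.pow_mem d hd
    have h3 : (g * d * g⁻¹) ^ 2 = d ^ 2 := by
      rw [conj_pow, hzcen _ hd2 g, mul_inv_cancel_right]
    rw [h1, (show Commute z d from (hzcen z hz d).symm).mul_pow] at h3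
    exact mul_eq_right.1 h3
  haveI : Fact (Nat.Prime 2) := ⟨Nat.prime_two⟩
  haveI : IsCyclic P0 := isCyclic_of_prime_card hP0
  letI : CommGroup P0 := IsCyclic.commGroup
  let χ : ψ.ker →* P0 × P0 :=
    { toFun := fun g => (⟨_, hval g g.2 a ha⟩, ⟨_, hval g g.2 b hb⟩)
      map_one' := by simp [Prod.ext_iff]
      map_mul' := fun g g' => by
        rw [Prod.mk_mul_mk]
        refine Prod.ext (Subtype.ext ?_) (Subtype.ext ?_)
        · show (↑(g * g') : G) * a * (↑(g * g') : G)⁻¹ * a⁻¹ = _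
          rw [Subgroup.coe_mul, comm_mul_left (fun z h => hzcen z (h ▸ hP0Z (hval g' g'.2 a ha)) g)]
          exact hzcen _ (hP0Z (hval g g.2 a ha)) _
        · show (↑(g * g') : G) * b * (↑(g * g') : G)⁻¹ * b⁻¹ = _
          rw [Subgroup.coe_mul, comm_mul_left (fun z h => hzcen z (h ▸ hP0Z (hval g' g'.2 b hb)) g)]
          exact hzcen _ (hP0Z (hval g g.2 b hb)) _ }
  have hker : χ.ker.map ψ.ker.subtype = C := by
    refine le_antisymm ?_ (fun g hg => ?_)
    · rintro _ ⟨⟨g, hg⟩, hk, rfl⟩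
      have hk' := Prod.ext_iff.1 (MonoidHom.mem_ker.1 hk)
      have hga : Commute g a := comm_eq_one_iff.1 (congrArg Subtype.val hk'.1)
      have hgb : Commute g b := comm_eq_one_iff.1 (congrArg Subtype.val hk'.2)
      refine Subgroup.mem_centralizer_iff.2 fun d hd => ?_
      obtain ⟨i, j, z, hz, rfl⟩ := four_cosets hm ha hb hab d hd
      exact (((hga.pow_right _).mul_right (hgb.pow_right _)).mul_right (hzcen z hz g)).eq.symm
    · rw [hCdef, Subgroup.mem_centralizer_iff] at hg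
      have h1 : ∀ d ∈ D, g * d * g⁻¹ * d⁻¹ = 1 := fun d hd => comm_eq_one_iff.2 (hg d hd).symm
      exact ⟨⟨g, (hmemN g).2 fun d hd => h1 d hd ▸ Z.one_mem⟩,
        Prod.ext (Subtype.ext (h1 a ha)) (Subtype.ext (h1 b hb)), rfl⟩
  have hN : Nat.card ψ.ker = Nat.card χ.range * Nat.card C := by
    rw [Subgroup.card_eq_card_quotient_mul_card_subgroup χ.ker,
      Nat.card_congr (QuotientGroup.quotientKerEquivRange χ).toEquiv, ← hker,
      Subgroup.card_map_of_injective ψ.ker.subtype_injective]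
  have hGN : Nat.card G = Nat.card ψ.range * Nat.card ψ.ker := by
    rw [Subgroup.card_eq_card_quotient_mul_card_subgroup ψ.ker,
      Nat.card_congr (QuotientGroup.quotientKerEquivRange ψ).toEquiv]
  have h6 : Nat.card ψ.range ∣ 6 := hPerm ▸ Subgroup.card_subgroup_dvd_card _
  have h4 : Nat.card χ.range ∣ 4 := by
    have := Subgroup.card_subgroup_dvd_card χ.range
    rwa [Nat.card_prod, hP0] at this
  refine ⟨?_, hq2, ?_⟩
  · rw [hGN, hN, show 24 * (q - 1) = 6 * (4 * (q - 1)) by ring]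
    exact mul_dvd_mul h6 (mul_dvd_mul h4 hC)
  by_cases hs : ∃ g, Equiv.Perm.sign (ψ g) = -1
  · refine Or.inl (exists_index_two_of_hom (Equiv.Perm.sign.comp ψ)
      ⟨⟨fun a b => Subtype.ext (mul_comm _ _)⟩⟩ ?_)
    obtain ⟨g, hg⟩ := hs
    have hne1 : (⟨_, g, rfl⟩ : (Equiv.Perm.sign.comp ψ).range) ≠ 1 := fun h => by
      have := congrArg Subtype.val h
      simp [hg] at this
    have : orderOf (⟨_, g, rfl⟩ : (Equiv.Perm.sign.comp ψ).range) = 2 :=
      orderOf_eq_prime (Subtype.ext (Int.units_sq _)) hne1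
    exact this ▸ orderOf_dvd_natCard _
  push Not at hs
  have h3 : Nat.card ψ.range ∣ 3 := by
    have hle : ψ.range ≤ Equiv.Perm.sign.ker := by
      rintro _ ⟨g, rfl⟩
      exact (Int.units_eq_one_or _).resolve_right (hs g)
    refine (Subgroup.card_dvd_of_le hle).trans ?_
    haveI : Nontrivial {x : D ⧸ S // x ≠ 1} := Fintype.one_lt_card_iff_nontrivial.1 (by omega)
    have hc := Subgroup.index_mul_card (Equiv.Perm.sign (α := {x : D ⧸ S // x ≠ 1})).ker
    rw [Subgroup.index_ker, hPerm, MonoidHom.range_eq_top.2 (Equiv.Perm.sign_surjective _),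
      Subgroup.card_top] at hc
    rw [show Nat.card ℤˣ = 2 by simp [Nat.card_eq_fintype_card]] at hc
    rw [show Nat.card (Equiv.Perm.sign (α := {x : D ⧸ S // x ≠ 1})).ker = 3 by omega]
  have hχab : χ ⟨a, (hmemN a).2 fun d hd => h2.comm_mem a ha d hd⟩ =
      (1, ⟨_, hcomm a ha b hb⟩) := Prod.ext (Subtype.ext (by simp [χ])) rfl
  have hχba : χ ⟨b, (hmemN b).2 fun d hd => h2.comm_mem b hb d hd⟩ =
      (⟨_, hcomm b hb a ha⟩, 1) := Prod.ext rfl (Subtype.ext (by simp [χ]))
  rcases (Nat.dvd_prime Nat.prime_three).1 h3 with h1 | h3'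
  · left
    have hker_top : ψ.ker = ⊤ := by
      rw [← Subgroup.card_eq_iff_eq_top, hGN, h1, one_mul]
    let f : G →* P0 := ((MonoidHom.snd P0 P0).comp χ).comp
      ((MonoidHom.id G).codRestrict ψ.ker fun g => hker_top ▸ Subgroup.mem_top g)
    refine exists_index_two_of_hom f ⟨⟨fun x y => Subtype.ext (mul_comm _ _)⟩⟩ ?_
    have : orderOf (⟨_, a, rfl⟩ : f.range) = 2 := by
      refine orderOf_eq_prime (Subtype.ext ?_) fun h => hab ?_
      · show (f a) ^ 2 = 1
        exact hP0 ▸ pow_card_eq_one'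
      · exact comm_eq_one_iff.1 (congrArg Subtype.val (congrArg Subtype.val h : f a = 1))
    exact this ▸ orderOf_dvd_natCard _
  · right
    have hrange : χ.range = ⊤ := by
      refine eq_top_iff.2 fun ⟨x, y⟩ _ => ?_
      have hgen : ∀ u : P0, u ≠ 1 → ∀ x : P0, ∃ i : ℤ, u ^ i = x := fun u hu x =>
        Subgroup.mem_zpowers_iff.1 (mem_zpowers_of_prime_card hP0 hu)
      obtain ⟨i, hi⟩ := hgen ⟨_, hcomm b hb a ha⟩
        (fun h => hab (comm_eq_one_iff.1 (congrArg Subtype.val h)).symm) x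
      obtain ⟨j, hj⟩ := hgen ⟨_, hcomm a ha b hb⟩
        (fun h => hab (comm_eq_one_iff.1 (congrArg Subtype.val h))) y
      refine ⟨⟨b, (hmemN b).2 fun d hd => h2.comm_mem b hb d hd⟩ ^ i *
        ⟨a, (hmemN a).2 fun d hd => h2.comm_mem a ha d hd⟩ ^ j, ?_⟩
      rw [map_mul, map_zpow, map_zpow, hχab, hχba]
      simp [hi, hj]
    refine ⟨D, a, ha, b, hb, h2, hab, hm, ?_, hC, hCcen, fun t ht3 htC d hd hdz htd => ?_⟩
    · rw [hGN, hN, h3', hrange, Subgroup.card_top, Nat.card_prod, hP0]; ring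
    · have hconjD : ∀ e ∈ D, t * e * t⁻¹ ∈ D := fun e he => hDn.conj_mem e he t
      set w := t * d * t⁻¹ * d⁻¹ with hw
      have hd' : t * d * t⁻¹ = w * d := by rw [hw]; group
      -- any element of `D` noncentral modulo `⟨d⟩` completes a basis
      obtain ⟨e, he, hde⟩ : ∃ e ∈ D, d * e ≠ e * d := by
        by_contra hc
        push Not at hc
        exact hdz ⟨hd, Subgroup.mem_centralizer_iff.2 fun e he => (hc e he).symm⟩
      obtain ⟨i, j, z, hz, hte⟩ := four_cosets hm hd he hde (t * e * t⁻¹) (hconjD e he)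
      have ht2 : ∀ g ∈ D, ∀ z0 ∈ Z, ∀ g', t * g * t⁻¹ = z0 * g' → t ^ 2 * g * (t ^ 2)⁻¹ = z0 * (t * g' * t⁻¹) :=
        fun g _ z0 hz0 g' hg => by
          calc t ^ 2 * g * (t ^ 2)⁻¹ = t * (t * g * t⁻¹) * t⁻¹ := by rw [pow_two]; group
            _ = (t * z0) * g' * t⁻¹ := by rw [hg]; group
            _ = _ := by rw [hzcen z0 hz0 t]; group
      have hd2 : t ^ 2 * d * (t ^ 2)⁻¹ = w * w * d := by rw [ht2 d hd w htd d hd', hd']; group
      have hj : (j : ℕ) = 1 := by
        by_contra hj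
        have hj0 : (j : ℕ) = 0 := by have := j.2; omega
        rw [hj0, pow_zero, mul_one] at hte
        apply hde
        have h1 : Commute (t * d * t⁻¹) (t * e * t⁻¹) := by
          rw [hd', hte]
          have hwd : Commute w d := (hzcen w htd d).symm
          exact Commute.mul_right (Commute.pow_right ((hwd.mul_left (Commute.refl d))) _) (hzcen z hz _)
        have h1' : t * (d * e) * t⁻¹ = t * (e * d) * t⁻¹ := by
          rw [show t * (d * e) * t⁻¹ = (t * d * t⁻¹) * (t * e * t⁻¹) by group, h1.eq]; group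
        exact mul_left_cancel (mul_right_cancel h1')
      rw [hj, pow_one] at hte
      have he2 : t ^ 2 * e * (t ^ 2)⁻¹ * e⁻¹ ∈ Z := by
        have hz' : ∀ g, g * z = z * g := fun g => hzcen z hz g
        have e1 : t * e * t⁻¹ = z * (d ^ (i : ℕ) * e) := by rw [hte, hz']
        rw [ht2 e he z hz _ e1]
        have e2 : t * (d ^ (i : ℕ) * e) * t⁻¹ = w ^ (i : ℕ) * (d ^ (i : ℕ)) * (z * (d ^ (i : ℕ) * e)) := by
          rw [show t * (d ^ (i : ℕ) * e) * t⁻¹ = (t * d ^ (i : ℕ) * t⁻¹) * (t * e * t⁻¹) by group, e1,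
            ← conj_pow, hd', (show Commute w d from (hzcen w htd d).symm).mul_pow]
        rw [e2]
        have e3 : z * (w ^ (i : ℕ) * d ^ (i : ℕ) * (z * (d ^ (i : ℕ) * e))) * e⁻¹ =
            z * w ^ (i : ℕ) * z * (d ^ (i : ℕ)) ^ 2 := by
          calc z * (w ^ (i : ℕ) * d ^ (i : ℕ) * (z * (d ^ (i : ℕ) * e))) * e⁻¹
              = z * w ^ (i : ℕ) * (d ^ (i : ℕ) * z) * d ^ (i : ℕ) := by group
            _ = z * w ^ (i : ℕ) * (z * d ^ (i : ℕ)) * d ^ (i : ℕ) := by rw [hz']
            _ = _ := by rw [pow_two]; group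
        rw [e3]
        exact Z.mul_mem (Z.mul_mem (Z.mul_mem hz (Z.pow_mem htd _)) hz)
          (h2.pow_mem _ (D.pow_mem hd _))
      have hd2' : t ^ 2 * d * (t ^ 2)⁻¹ * d⁻¹ ∈ Z := by
        rw [hd2, mul_inv_cancel_right]; exact Z.mul_mem htd htd
      have hmem2 : t ^ 2 ∈ ψ.ker := by
        refine (hmemN _).2 fun g hg => ?_
        obtain ⟨i', j', z', hz', rfl⟩ := four_cosets hm hd he hde g hg
        set s := t ^ 2
        set u := s * d * s⁻¹ * d⁻¹ with hu
        set v := s * e * s⁻¹ * e⁻¹ with hv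
        have hud : Commute u d := (hzcen u hd2' d).symm
        have hve : Commute v e := (hzcen v he2 e).symm
        have h1 : s * (d ^ (i' : ℕ) * e ^ (j' : ℕ) * z') * s⁻¹ =
            (u ^ (i' : ℕ) * v ^ (j' : ℕ)) * (d ^ (i' : ℕ) * e ^ (j' : ℕ) * z') := by
          calc s * (d ^ (i' : ℕ) * e ^ (j' : ℕ) * z') * s⁻¹
              = (s * d * s⁻¹) ^ (i' : ℕ) * (s * e * s⁻¹) ^ (j' : ℕ) * (s * z' * s⁻¹) := by
                rw [conj_pow, conj_pow]; group
            _ = (u ^ (i' : ℕ) * d ^ (i' : ℕ)) * (v ^ (j' : ℕ) * e ^ (j' : ℕ)) * z' := by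
                rw [show s * d * s⁻¹ = u * d by rw [hu]; group, show s * e * s⁻¹ = v * e by rw [hv]; group,
                  hud.mul_pow, hve.mul_pow, hzcen z' hz' s, mul_inv_cancel_right]
            _ = u ^ (i' : ℕ) * (d ^ (i' : ℕ) * v ^ (j' : ℕ)) * e ^ (j' : ℕ) * z' := by group
            _ = _ := by rw [hzcen _ (Z.pow_mem he2 _) (d ^ (i' : ℕ))]; group
        rw [h1, mul_inv_cancel_right]
        exact Z.mul_mem (Z.pow_mem hd2' _) (Z.pow_mem he2 _)
      have htN : t ∈ ψ.ker := by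
        have : t = (t ^ 2) ^ 2 := by rw [← pow_mul, show 2 * 2 = 3 + 1 by norm_num, pow_succ, ht3, one_mul]
        rw [this]; exact ψ.ker.pow_mem hmem2 2
      apply htC
      refine hker.le ?_
      refine ⟨⟨t, htN⟩, ?_, rfl⟩
      have h1 : χ ⟨t, htN⟩ ^ 3 = 1 := by
        rw [← map_pow, show (⟨t, htN⟩ : ψ.ker) ^ 3 = 1 from Subtype.ext ht3, map_one]
      have h2' : χ ⟨t, htN⟩ ^ 2 = 1 := by
        refine Prod.ext ?_ ?_ <;> exact hP0 ▸ pow_card_eq_one'
      refine MonoidHom.mem_ker.2 ?_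
      simpa [pow_succ, show χ ⟨t, htN⟩ * χ ⟨t, htN⟩ = 1 by rwa [← pow_two]] using h1

end Cfsg.Agent.Lib.SolvLinear

namespace Cfsg.Agent.Lib.SolvLinear

variable {q : ℕ} [hq : Fact q.Prime] {V : Type*} [AddCommGroup V] [Module (ZMod q) V] [Finite V]
  [Nontrivial V] {G : Type*} [Group G] [Finite G] {ρ : G →* (V ≃ₗ[ZMod q] V)}

theorem isSemilinear_of_finrank_eq_one (ht : IsVecTransitive ρ)
    (hn : Module.finrank (ZMod q) V = 1) : IsSemilinear ρ := by
  have hA : IsMulCommutative (⊥ : Subgroup G) := ⟨⟨fun a b => Subsingleton.elim _ _⟩⟩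
  refine ⟨⊥, inferInstance, hA, ?_⟩
  have h1 := degree_dvd ht ⊥ hA
  rw [hn] at h1 ⊢
  exact Nat.dvd_one.1 h1

/-- The exceptional primes in dimension two. -/
theorem two_primes [Group.IsSolvable G] (hρ : Function.Injective ρ) (ht : IsVecTransitive ρ)
    (hns : ¬ IsSemilinear ρ) (hn : Module.finrank (ZMod q) V = 2) :
    q = 3 ∨ q = 5 ∨ q = 7 ∨ q = 11 ∨ q = 23 := by
  obtain ⟨hdvd, h2, -⟩ := two_dichotomy hρ ht hns hn
  have h1 := (pow_sub_one_dvd_card ht).trans hdvd
  rw [hn, ← one_pow 2, Nat.sq_sub_sq] at h1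
  have hp := hq.out
  have h2' := hp.two_le
  simp only [one_pow] at h1
  have h24 : q + 1 ∣ 24 := (Nat.mul_dvd_mul_iff_right (show 0 < q - 1 by omega)).1 h1
  have hle : q ≤ 23 := by have := Nat.le_of_dvd (by norm_num) h24; omega
  interval_cases q <;> simp_all (config := { decide := true })

end Cfsg.Agent.Lib.SolvLinear
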