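import Mathlib

/-!
# Recognising `SL(2,3)` from generators
-/

set_option autoImplicit false

namespace Cfsg.Agent.Lib.SolvLinear

abbrev Word := Fin 4 × Fin 2 × Fin 3

def wordVal {M : Type*} [Monoid M] (a b t : M) (s : Word) : M :=
  a ^ (s.1 : ℕ) * b ^ (s.2.1 : ℕ) * t ^ (s.2.2 : ℕ)

/-- Right multiplication by `a` on `(i, j)`. -/
def mulA (i : Fin 4) (j : Fin 2) : Fin 4 × Fin 2 := if j = 0 then (i + 1, 0) else (i + 3, 1)

/-- Right multiplication by `b` on `(i, j)`. -/
def mulB (i : Fin 4) (j : Fin 2) : Fin 4 × Fin 2 := if j = 0 then (i, 1) else (i + 2, 0)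

def stepA (s : Word) : Word :=
  if s.2.2 = 0 then ((mulA s.1 s.2.1).1, (mulA s.1 s.2.1).2, s.2.2)
  else if s.2.2 = 1 then ((mulB s.1 s.2.1).1, (mulB s.1 s.2.1).2, s.2.2)
  else ((mulB (mulA s.1 s.2.1).1 (mulA s.1 s.2.1).2).1, (mulB (mulA s.1 s.2.1).1 (mulA s.1 s.2.1).2).2, s.2.2)

def stepB (s : Word) : Word :=
  if s.2.2 = 0 then ((mulB s.1 s.2.1).1, (mulB s.1 s.2.1).2, s.2.2)
  else if s.2.2 = 1 then
    ((mulB (mulA s.1 s.2.1).1 (mulA s.1 s.2.1).2).1, (mulB (mulA s.1 s.2.1).1 (mulA s.1 s.2.1).2).2, s.2.2)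
  else ((mulA s.1 s.2.1).1, (mulA s.1 s.2.1).2, s.2.2)

def stepT (s : Word) : Word := (s.1, s.2.1, s.2.2 + 1)

section
variable {M : Type*} [Group M] {a b t : M} (ha4 : a ^ 4 = 1) (hbb : b * b = a * a)
  (hba : b * a = a ^ 3 * b) (ht3 : t ^ 3 = 1) (hta : t * a = b * t) (htb : t * b = a * b * t)

include ha4 in
theorem pow_fin_add (i k : Fin 4) : a ^ ((i + k : Fin 4) : ℕ) = a ^ (i : ℕ) * a ^ (k : ℕ) := by
  rw [← pow_add, Fin.val_add, ← pow_eq_pow_mod _ ha4]

include ha4 hba in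
theorem mulA_spec (i : Fin 4) (j : Fin 2) :
    a ^ ((mulA i j).1 : ℕ) * b ^ ((mulA i j).2 : ℕ) = a ^ (i : ℕ) * b ^ (j : ℕ) * a := by
  fin_cases j
  · simp [mulA, pow_fin_add ha4]
  · simp [mulA, pow_fin_add ha4, mul_assoc, hba]

include ha4 hbb in
theorem mulB_spec (i : Fin 4) (j : Fin 2) :
    a ^ ((mulB i j).1 : ℕ) * b ^ ((mulB i j).2 : ℕ) = a ^ (i : ℕ) * b ^ (j : ℕ) * b := by
  fin_cases j
  · simp [mulB]
  · simp [mulB, pow_fin_add ha4, mul_assoc, hbb, pow_two]

include ha4 hbb hba ht3 hta htb in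
theorem step_spec (s : Word) :
    wordVal a b t (stepA s) = wordVal a b t s * a ∧ wordVal a b t (stepB s) = wordVal a b t s * b ∧
      wordVal a b t (stepT s) = wordVal a b t s * t := by
  obtain ⟨i, j, k⟩ := s
  refine ⟨?_, ?_, ?_⟩
  · fin_cases k
    · simp [stepA, wordVal, mulA_spec ha4 hba]
    · simp [stepA, wordVal, mulB_spec ha4 hbb, mul_assoc, hta]
    · have h2 : t ^ 2 * a = a * b * t ^ 2 := by
        rw [pow_two, mul_assoc, hta, ← mul_assoc, htb, mul_assoc]
      simp [stepA, wordVal, mulA_spec ha4 hba, mulB_spec ha4 hbb, mul_assoc, h2]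
  · fin_cases k
    · simp [stepB, wordVal, mulB_spec ha4 hbb]
    · simp [stepB, wordVal, mulA_spec ha4 hba, mulB_spec ha4 hbb, mul_assoc, htb]
    · have hbab : b * a * b = a := by
        rw [hba, mul_assoc, hbb, ← pow_two, ← pow_add, show 3 + 2 = 4 + 1 from rfl, pow_add, ha4,
          one_mul, pow_one]
      have h2 : t ^ 2 * b = a * t ^ 2 := by
        calc t ^ 2 * b = t * (t * b) := by rw [pow_two, mul_assoc]
          _ = t * a * b * t := by rw [htb]; group
          _ = b * (t * b) * t := by rw [hta]; group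
          _ = b * a * b * t * t := by rw [htb]; group
          _ = a * t ^ 2 := by rw [hbab, pow_two, mul_assoc]
      simp [stepB, wordVal, mulA_spec ha4 hba, mul_assoc, h2]
  · simp only [stepT, wordVal, mul_assoc, ← pow_succ, Fin.val_add, Fin.val_one]
    rw [← pow_eq_pow_mod _ ht3]

end

def slA : Matrix.SpecialLinearGroup (Fin 2) (ZMod 3) := ⟨!![0, -1; 1, 0], by decide⟩
def slB : Matrix.SpecialLinearGroup (Fin 2) (ZMod 3) := ⟨!![1, 1; 1, 2], by decide⟩
def slT : Matrix.SpecialLinearGroup (Fin 2) (ZMod 3) := ⟨!![1, 1; 0, 1], by decide⟩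

theorem slWord_bijective :
    Function.Bijective (wordVal slA slB slT : Word → Matrix.SpecialLinearGroup (Fin 2) (ZMod 3)) := by
  decide +kernel

theorem sl_step (s : Word) :
    wordVal slA slB slT (stepA s) = wordVal slA slB slT s * slA ∧
    wordVal slA slB slT (stepB s) = wordVal slA slB slT s * slB ∧
      wordVal slA slB slT (stepT s) = wordVal slA slB slT s * slT := by
  revert s
  decide +kernel

/-- Generators with the relations and normal form of `SL(2,3)` give an embedding of it. -/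
theorem exists_hom_slTwoThree {M : Type*} [Group M] {a b t : M} (ha4 : a ^ 4 = 1) (hbb : b * b = a * a)
    (hba : b * a = a ^ 3 * b) (ht3 : t ^ 3 = 1) (hta : t * a = b * t) (htb : t * b = a * b * t)
    (hinj : Function.Injective (wordVal a b t)) :
    ∃ f : Matrix.SpecialLinearGroup (Fin 2) (ZMod 3) →* M, Function.Injective f := by
  let e := Equiv.ofBijective _ slWord_bijective
  have he : ∀ s, e.symm (wordVal slA slB slT s) = s := fun s => e.symm_apply_apply s
  let f : Matrix.SpecialLinearGroup (Fin 2) (ZMod 3) → M := fun x => wordVal a b t (e.symm x)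
  have hgen : ∀ x, f (x * slA) = f x * a ∧ f (x * slB) = f x * b ∧ f (x * slT) = f x * t := by
    intro x
    obtain ⟨s, rfl⟩ := slWord_bijective.2 x
    obtain ⟨h1, h2, h3⟩ := sl_step s
    obtain ⟨g1, g2, g3⟩ := step_spec ha4 hbb hba ht3 hta htb s
    simp only [f, ← h1, ← h2, ← h3, he]
    exact ⟨g1, g2, g3⟩
  have hpow : ∀ (g : Matrix.SpecialLinearGroup (Fin 2) (ZMod 3)) (c : M), (∀ x, f (x * g) = f x * c) →
      ∀ (n : ℕ) x, f (x * g ^ n) = f x * c ^ n := by
    intro g c h n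
    induction n with
    | zero => simp
    | succ n ih => intro x; rw [pow_succ, ← mul_assoc, h, ih, pow_succ, mul_assoc]
  have hmul : ∀ x y, f (x * y) = f x * f y := by
    intro x y
    obtain ⟨⟨i, j, k⟩, rfl⟩ := slWord_bijective.2 y
    simp only [f, he]
    show f (x * (slA ^ (i : ℕ) * slB ^ (j : ℕ) * slT ^ (k : ℕ))) = f x * (a ^ (i : ℕ) * b ^ (j : ℕ) * t ^ (k : ℕ))
    rw [← mul_assoc, hpow slT t (fun z => (hgen z).2.2), ← mul_assoc,
      hpow slB b (fun z => (hgen z).2.1), hpow slA a (fun z => (hgen z).1)]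
    group
  exact ⟨MonoidHom.mk' f hmul, hinj.comp e.symm.injective⟩

end Cfsg.Agent.Lib.SolvLinear
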