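import Mathlib

/-!
# Normal subgroups of class two and their coprime automorphisms
-/

set_option autoImplicit false

namespace Cfsg.Agent.Lib.SolvLinear

variable {G : Type*} [Group G]

/-- `D` is a normal `p`-group with central commutators of order dividing `p` and central `p`-th
powers. -/
structure IsClassTwo (p : ℕ) (D : Subgroup G) : Prop where
  normal : D.Normal
  isPGroup : IsPGroup p D
  comm_mem : ∀ a ∈ D, ∀ b ∈ D, a * b * a⁻¹ * b⁻¹ ∈ D ⊓ Subgroup.centralizer (D : Set G)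
  pow_mem : ∀ a ∈ D, a ^ p ∈ D ⊓ Subgroup.centralizer (D : Set G)
  comm_pow : ∀ a ∈ D, ∀ b ∈ D, (a * b * a⁻¹ * b⁻¹) ^ p = 1

theorem comm_mul_left {a b c : G} (hc : ∀ z, z = b * c * b⁻¹ * c⁻¹ → a * z = z * a) :
    (a * b) * c * (a * b)⁻¹ * c⁻¹ = (b * c * b⁻¹ * c⁻¹) * (a * c * a⁻¹ * c⁻¹) := by
  have h := hc _ rfl
  calc (a * b) * c * (a * b)⁻¹ * c⁻¹ = (a * (b * c * b⁻¹ * c⁻¹)) * (c * a⁻¹ * c⁻¹) := by group
    _ = ((b * c * b⁻¹ * c⁻¹) * a) * (c * a⁻¹ * c⁻¹) := by rw [h]
    _ = _ := by group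

theorem comm_mul_right {a b c : G} (hc : ∀ z, z = a * c * a⁻¹ * c⁻¹ → b * z = z * b) :
    a * (b * c) * a⁻¹ * (b * c)⁻¹ = (a * b * a⁻¹ * b⁻¹) * (a * c * a⁻¹ * c⁻¹) := by
  have h := hc _ rfl
  calc a * (b * c) * a⁻¹ * (b * c)⁻¹
      = (a * b * a⁻¹) * ((a * c * a⁻¹ * c⁻¹) * b⁻¹) := by group
    _ = (a * b * a⁻¹) * (b⁻¹ * (a * c * a⁻¹ * c⁻¹)) := by
        congr 1
        calc (a * c * a⁻¹ * c⁻¹) * b⁻¹ = b⁻¹ * (b * (a * c * a⁻¹ * c⁻¹)) * b⁻¹ := by group
          _ = b⁻¹ * ((a * c * a⁻¹ * c⁻¹) * b) * b⁻¹ := by rw [h]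
          _ = _ := by group
    _ = _ := by group

theorem comm_eq_one_iff {a b : G} : a * b * a⁻¹ * b⁻¹ = 1 ↔ a * b = b * a := by
  rw [mul_inv_eq_one, mul_inv_eq_iff_eq_mul]

/-- A finite group with commutators in a central subgroup of prime order has square index over
its centre. -/
theorem card_eq_pow_mul_center [Finite G] {p : ℕ} (hp : p.Prime) (P0 : Subgroup G)
    (hP : Nat.card P0 = p) (E : Subgroup G) (hPE : E ≤ Subgroup.centralizer (P0 : Set G))
    (hcomm : ∀ a ∈ E, ∀ b ∈ E, a * b * a⁻¹ * b⁻¹ ∈ P0) :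
    ∃ c : ℕ, Nat.card E = p ^ (2 * c) * Nat.card ↥(E ⊓ Subgroup.centralizer (E : Set G)) := by
  induction hn : Nat.card E using Nat.strong_induction_on generalizing E with
  | _ n ih =>
    subst hn
    by_cases hab : E ≤ Subgroup.centralizer (E : Set G)
    · exact ⟨0, by rw [inf_eq_left.2 hab, mul_zero, pow_zero, one_mul]⟩
    obtain ⟨a, ha, hna⟩ := SetLike.not_le_iff_exists.1 hab
    rw [Subgroup.mem_centralizer_iff] at hna
    push Not at hna
    obtain ⟨b, hb, hne⟩ := hna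
    haveI : Fact p.Prime := ⟨hp⟩
    haveI : IsCyclic P0 := isCyclic_of_prime_card hP
    letI : CommGroup P0 := IsCyclic.commGroup
    have hz : ∀ e ∈ E, ∀ z ∈ P0, e * z = z * e := fun e he z hz =>
      (Subgroup.mem_centralizer_iff.1 (hPE he) z hz).symm
    let f : E →* P0 × P0 :=
      { toFun := fun e => (⟨_, hcomm e e.2 a ha⟩, ⟨_, hcomm e e.2 b hb⟩)
        map_one' := by simp [Prod.ext_iff]
        map_mul' := fun e e' => by
          rw [Prod.mk_mul_mk]
          refine Prod.ext (Subtype.ext ?_) (Subtype.ext ?_)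
          · show (↑(e * e') : G) * a * (↑(e * e') : G)⁻¹ * a⁻¹ = _
            rw [Subgroup.coe_mul, comm_mul_left (fun z h => hz e e.2 z (h ▸ hcomm e' e'.2 a ha))]
            exact hz _ (E.mul_mem (E.mul_mem (E.mul_mem e'.2 ha) (E.inv_mem e'.2)) (E.inv_mem ha)) _
              (hcomm e e.2 a ha)
          · show (↑(e * e') : G) * b * (↑(e * e') : G)⁻¹ * b⁻¹ = _
            rw [Subgroup.coe_mul, comm_mul_left (fun z h => hz e e.2 z (h ▸ hcomm e' e'.2 b hb))]
            exact hz _ (E.mul_mem (E.mul_mem (E.mul_mem e'.2 hb) (E.inv_mem e'.2)) (E.inv_mem hb)) _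
              (hcomm e e.2 b hb) }
    let u : P0 := ⟨a * b * a⁻¹ * b⁻¹, hcomm a ha b hb⟩
    have hu : ∀ z : P0, ∃ i : ℤ, u ^ i = z := by
      intro z
      refine Subgroup.mem_zpowers_iff.1 (mem_zpowers_of_prime_card hP ?_)
      exact fun h => hne (comm_eq_one_iff.1 (congrArg Subtype.val h)).symm
    have hsurj : Function.Surjective f := by
      rintro ⟨z, w⟩
      obtain ⟨i, rfl⟩ := hu z
      obtain ⟨j, rfl⟩ := hu w
      have h1 : f ⟨a, ha⟩ = (1, u) := Prod.ext (Subtype.ext (by simp [f])) rfl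
      have h2 : f ⟨b, hb⟩ = (u⁻¹, 1) :=
        Prod.ext (Subtype.ext (by simp [f, u, mul_assoc])) (Subtype.ext (by simp [f]))
      refine ⟨⟨b, hb⟩ ^ (-i) * ⟨a, ha⟩ ^ j, ?_⟩
      rw [map_mul, map_zpow, map_zpow, h1, h2]
      simp
    set E1 : Subgroup G := f.ker.map E.subtype with hE1def
    have hle : E1 ≤ E := Subgroup.map_subtype_le _
    have hmem : ∀ e, e ∈ E1 ↔ e ∈ E ∧ e * a = a * e ∧ e * b = b * e := by
      intro e
      constructor
      · rintro ⟨⟨e, he⟩, hk, rfl⟩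
        have hk' := Prod.ext_iff.1 (MonoidHom.mem_ker.1 hk)
        exact ⟨he, comm_eq_one_iff.1 (congrArg Subtype.val hk'.1),
          comm_eq_one_iff.1 (congrArg Subtype.val hk'.2)⟩
      · rintro ⟨he, h1, h2⟩
        exact ⟨⟨e, he⟩, Prod.ext (Subtype.ext (comm_eq_one_iff.2 h1))
          (Subtype.ext (comm_eq_one_iff.2 h2)), rfl⟩
    have hcard : Nat.card E = p ^ 2 * Nat.card E1 := by
      rw [Subgroup.card_eq_card_quotient_mul_card_subgroup f.ker,
        Nat.card_congr (QuotientGroup.quotientKerEquivOfSurjective f hsurj).toEquiv, Nat.card_prod,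
        hP, hE1def, Subgroup.card_map_of_injective E.subtype_injective]
      ring
    have hcen : E1 ⊓ Subgroup.centralizer (E1 : Set G) = E ⊓ Subgroup.centralizer (E : Set G) := by
      refine le_antisymm (fun e he => ?_) (fun e he => ?_)
      · obtain ⟨he1, hec⟩ := Subgroup.mem_inf.1 he
        obtain ⟨heE, hea, heb⟩ := (hmem e).1 he1
        refine ⟨heE, Subgroup.mem_centralizer_iff.2 fun d hd => ?_⟩
        obtain ⟨i, hi⟩ := hu (f ⟨d, hd⟩).1
        obtain ⟨j, hj⟩ := hu (f ⟨d, hd⟩).2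
        have hk : (⟨b, hb⟩ ^ (-i) * ⟨a, ha⟩ ^ j)⁻¹ * (⟨d, hd⟩ : E) ∈ f.ker := by
          have h1 : f ⟨a, ha⟩ = (1, u) := Prod.ext (Subtype.ext (by simp [f])) rfl
          have h2 : f ⟨b, hb⟩ = (u⁻¹, 1) :=
            Prod.ext (Subtype.ext (by simp [f, u, mul_assoc])) (Subtype.ext (by simp [f]))
          rw [MonoidHom.mem_ker, map_mul, map_inv, map_mul, map_zpow, map_zpow, h1, h2,
            inv_mul_eq_one]
          exact Prod.ext (by simp [hi]) (by simp [hj])
        have h3 : Commute (b ^ (-i) * a ^ j) e :=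
          ((show Commute b e from heb.symm).zpow_left _).mul_left ((show Commute a e from hea.symm).zpow_left _)
        have h4 : Commute ((b ^ (-i) * a ^ j)⁻¹ * d) e :=
          Subgroup.mem_centralizer_iff.1 hec _ ⟨_, hk, by simp⟩
        show Commute d e
        have h5 := h3.mul_left h4
        rwa [mul_inv_cancel_left] at h5
      · obtain ⟨heE, hec⟩ := Subgroup.mem_inf.1 he
        rw [Subgroup.mem_centralizer_iff] at hec
        exact ⟨(hmem e).2 ⟨heE, (hec a ha).symm, (hec b hb).symm⟩,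
          Subgroup.mem_centralizer_iff.2 fun d hd => hec d (hle hd)⟩
    have hpos : 0 < Nat.card E1 := Nat.card_pos
    have hlt : Nat.card E1 < Nat.card E := by
      rw [hcard]
      exact lt_mul_of_one_lt_left hpos (Nat.one_lt_pow two_ne_zero hp.one_lt)
    obtain ⟨c, hc⟩ := ih _ hlt E1 (hle.trans hPE) (fun x hx y hy => hcomm x (hle hx) y (hle hy)) rfl
    exact ⟨c + 1, by rw [hcard, hc, hcen]; ring⟩

namespace IsClassTwo

variable [Finite G] {p : ℕ} [hp : Fact p.Prime] {D : Subgroup G}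

theorem exists_center_prime (h : IsClassTwo p D) (hne : ¬ D ≤ Subgroup.centralizer (D : Set G))
    (hcyc : IsCyclic ↥(D ⊓ Subgroup.centralizer (D : Set G))) :
    ∃ P0 : Subgroup G, Nat.card P0 = p ∧ P0 ≤ D ⊓ Subgroup.centralizer (D : Set G) ∧
      ∀ a ∈ D, ∀ b ∈ D, a * b * a⁻¹ * b⁻¹ ∈ P0 := by
  obtain ⟨a, ha, hna⟩ := SetLike.not_le_iff_exists.1 hne
  rw [Subgroup.mem_centralizer_iff] at hna
  push Not at hna
  obtain ⟨b, hb, hab⟩ := hna
  set Z := D ⊓ Subgroup.centralizer (D : Set G)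
  let u : Z := ⟨_, h.comm_mem a ha b hb⟩
  have hu : orderOf u = p := orderOf_eq_prime (Subtype.ext (h.comm_pow a ha b hb))
    fun e => hab (comm_eq_one_iff.1 (congrArg Subtype.val e)).symm
  refine ⟨(Subgroup.zpowers u).map Z.subtype, ?_, Subgroup.map_subtype_le _, fun c hc d hd => ?_⟩
  · rw [Subgroup.card_map_of_injective Z.subtype_injective, Nat.card_zpowers, hu]
  · refine ⟨⟨_, h.comm_mem c hc d hd⟩, ?_, rfl⟩
    classical
    haveI := Fintype.ofFinite Z
    let z : Z := ⟨_, h.comm_mem c hc d hd⟩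
    have hsub : Finset.univ.filter (fun x => x ∈ Subgroup.zpowers u) ⊆
        Finset.univ.filter (fun x : Z => x ^ p = 1) := by
      intro x hx
      simp only [Finset.mem_filter, Finset.mem_univ, true_and] at hx ⊢
      obtain ⟨i, rfl⟩ := hx
      show (u ^ i) ^ p = 1
      rw [← zpow_natCast, ← zpow_mul, mul_comm, zpow_mul, zpow_natCast, ← hu, pow_orderOf_eq_one,
        one_zpow]
    have heq := Finset.eq_of_subset_of_card_le hsub <| by
      refine (IsCyclic.card_pow_eq_one_le (n := p) hp.out.pos).trans (le_of_eq ?_)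
      rw [← hu, ← Nat.card_zpowers, Nat.card_eq_fintype_card, Fintype.card_subtype]
    have hz : z ∈ Finset.univ.filter (fun x : Z => x ^ p = 1) := by
      simp only [Finset.mem_filter, Finset.mem_univ, true_and]
      exact Subtype.ext (h.comm_pow c hc d hd)
    rw [← heq] at hz
    simpa using hz

/-- `|D / Z(D)|` is an even power of `p`, and a coprime automorphism of prime order `r` fixing
`Z(D)` has `r ∣ p ^ (2 e) - 1` for some `e` at most half of the exponent. -/
theorem coprime_action (h : IsClassTwo p D) (hne : ¬ D ≤ Subgroup.centralizer (D : Set G))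
    (hcyc : IsCyclic ↥(D ⊓ Subgroup.centralizer (D : Set G))) {m : ℕ}
    (hm : Nat.card D = p ^ (2 * m) * Nat.card ↥(D ⊓ Subgroup.centralizer (D : Set G)))
    {x : G} {r : ℕ} (hr : r.Prime) (hrp : r ≠ p) (hx : x ^ r = 1)
    (hxz : ∀ z ∈ D ⊓ Subgroup.centralizer (D : Set G), x * z = z * x)
    (hxD : ∃ d ∈ D, x * d ≠ d * x) :
    ∃ c : ℕ, c < m ∧ r ∣ p ^ (2 * (m - c)) - 1 ∧ (c = 0 → ∀ d ∈ D, x * d = d * x →
      d ∈ Subgroup.centralizer (D : Set G)) := by
  obtain ⟨P0, hP0, hP0Z, hcomm⟩ := h.exists_center_prime hne hcyc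
  set Z := D ⊓ Subgroup.centralizer (D : Set G) with hZ
  set E := D ⊓ Subgroup.centralizer ({x} : Set G) with hE
  have hmemE : ∀ d, d ∈ E ↔ d ∈ D ∧ x * d = d * x := fun d => by
    simp [hE, Subgroup.mem_centralizer_singleton_iff, eq_comm]
  have hDn := h.normal
  have hPD : D ≤ Subgroup.centralizer (P0 : Set G) := fun d hd =>
    Subgroup.mem_centralizer_iff.2 fun z hz =>
      (Subgroup.mem_centralizer_iff.1 (Subgroup.mem_inf.1 (hP0Z hz)).2 d hd).symm
  obtain ⟨c, hc⟩ := card_eq_pow_mul_center hp.out P0 hP0 E (inf_le_left.trans hPD)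
    (fun a ha b hb => hcomm a ha.1 b hb.1)
  have hcen : E ⊓ Subgroup.centralizer (E : Set G) = Z := by
    refine le_antisymm (fun e he => ?_) (fun z hz => ?_)
    · obtain ⟨heE, hec⟩ := Subgroup.mem_inf.1 he
      obtain ⟨heD, hex⟩ := (hmemE e).1 heE
      rw [Subgroup.mem_centralizer_iff] at hec
      refine ⟨heD, Subgroup.mem_centralizer_iff.2 fun d hd => ?_⟩
      let f : G → G := fun d => e * d * e⁻¹ * d⁻¹
      have hzc : ∀ a ∈ D, ∀ b ∈ D, a * f b = f b * a := fun a ha b hb =>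
        Subgroup.mem_centralizer_iff.1 (Subgroup.mem_inf.1 (h.comm_mem e heD b hb)).2 a ha
      have hconj : ∀ j : ℕ, x ^ j * d * (x ^ j)⁻¹ ∈ D := fun j => hDn.conj_mem d hd _
      have hfj : ∀ j : ℕ, f (x ^ j * d * (x ^ j)⁻¹) = f d := by
        intro j
        have hxe : Commute (x ^ j) e := (show Commute x e from hex).pow_left j
        have hxf : Commute (x ^ j) (f d) :=
          (show Commute x (f d) from hxz _ (h.comm_mem e heD d hd)).pow_left j
        calc f (x ^ j * d * (x ^ j)⁻¹)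
            = (e * x ^ j) * d * ((x ^ j)⁻¹ * e⁻¹ * x ^ j) * d⁻¹ * (x ^ j)⁻¹ := by simp only [f]; group
          _ = (x ^ j * e) * d * e⁻¹ * d⁻¹ * (x ^ j)⁻¹ := by
              rw [hxe.eq.symm, show (x ^ j)⁻¹ * e⁻¹ * x ^ j = e⁻¹ by
                rw [mul_assoc, ← (hxe.inv_right).eq, inv_mul_cancel_left]]
          _ = (x ^ j * f d) * (x ^ j)⁻¹ := by simp only [f]; group
          _ = f d := by rw [hxf.eq, mul_inv_cancel_right]
      have hw : ∀ j : ℕ, (d * x) ^ j * (x ^ j)⁻¹ ∈ D ∧ f ((d * x) ^ j * (x ^ j)⁻¹) = f d ^ j := by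
        intro j
        induction j with
        | zero => simp [f]
        | succ j ihj =>
          have heq : (d * x) ^ (j + 1) * (x ^ (j + 1))⁻¹ =
              ((d * x) ^ j * (x ^ j)⁻¹) * (x ^ j * d * (x ^ j)⁻¹) := by
            rw [pow_succ, pow_succ]; group
          rw [heq]
          refine ⟨D.mul_mem ihj.1 (hconj j), ?_⟩
          show e * (_ * _) * e⁻¹ * (_ * _)⁻¹ = _
          rw [comm_mul_right (fun z hz => hz ▸ hzc _ ihj.1 _ (hconj j))]
          show f _ * f _ = _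
          rw [ihj.2, hfj, pow_succ]
      obtain ⟨hwD, hfw⟩ := hw r
      rw [hx, inv_one, mul_one] at hwD hfw
      set w := (d * x) ^ r with hwdef
      have hxw : x * w * x⁻¹ = d⁻¹ * w * d := by
        rw [hwdef, ← conj_pow, ← inv_inv d, inv_inv, show d⁻¹ * (d * x) ^ r * d = (d⁻¹ * (d * x) * d) ^ r by
          conv_rhs => rw [show d⁻¹ * (d * x) * d = d⁻¹ * (d * x) * (d⁻¹)⁻¹ by simp, conj_pow, inv_inv]]
        congr 1
        group
      have hzc' := h.comm_mem d⁻¹ (D.inv_mem hd) w hwD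
      set z := d⁻¹ * w * d⁻¹⁻¹ * w⁻¹ with hz'
      have hxz' : x * z = z * x := hxz z hzc'
      have hxw' : x * w * x⁻¹ = z * w := by rw [hxw, hz']; group
      have hzz : Commute z w :=
        (Subgroup.mem_centralizer_iff.1 (Subgroup.mem_inf.1 hzc').2 w hwD).symm
      have hiter : ∀ j : ℕ, x ^ j * w * (x ^ j)⁻¹ = z ^ j * w := by
        intro j
        induction j with
        | zero => simp
        | succ j ihj =>
          calc x ^ (j + 1) * w * (x ^ (j + 1))⁻¹ = x * (x ^ j * w * (x ^ j)⁻¹) * x⁻¹ := by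
                rw [pow_succ']; group
            _ = x * (z ^ j * w) * x⁻¹ := by rw [ihj]
            _ = (x * z ^ j) * x⁻¹ * (x * w * x⁻¹) := by group
            _ = (z ^ j * x) * x⁻¹ * (z * w) := by
                rw [hxw', ((show Commute x z from hxz').pow_right j).eq]
            _ = z ^ (j + 1) * w := by rw [pow_succ]; group
      have hzr : z ^ r = 1 := by
        have := hiter r
        rw [hx, inv_one, one_mul, mul_one] at this
        exact right_eq_mul.1 this
      have hcop : ∀ y ∈ D, y ^ r = 1 → y = 1 := by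
        intro y hy hyr
        obtain ⟨k, hk⟩ := h.isPGroup ⟨y, hy⟩
        have hk' : y ^ p ^ k = 1 := by simpa using congrArg Subtype.val hk
        have hg : Nat.gcd r (p ^ k) = 1 :=
          Nat.Coprime.pow_right _ ((Nat.coprime_primes hr hp.out).2 hrp)
        simpa [hg] using pow_gcd_eq_one.2 ⟨hyr, hk'⟩
      have hz1 : z = 1 := hcop z hzc'.1 hzr
      rw [hz1, one_mul] at hxw'
      have hwE : w ∈ E := (hmemE w).2 ⟨hwD, mul_inv_eq_iff_eq_mul.1 hxw'⟩
      have hf1 : f w = 1 := comm_eq_one_iff.2 (hec w hwE).symm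
      rw [hf1] at hfw
      have := hcop (f d) (h.comm_mem e heD d hd).1 hfw.symm
      exact (comm_eq_one_iff.1 this).symm
    · refine ⟨(hmemE z).2 ⟨hz.1, hxz z hz⟩, Subgroup.mem_centralizer_iff.2 fun d hd => ?_⟩
      exact Subgroup.mem_centralizer_iff.1 hz.2 d hd.1
  rw [hcen] at hc
  have hlt : Nat.card E < Nat.card D := by
    obtain ⟨d, hd, hdx⟩ := hxD
    refine Set.ncard_lt_ncard (s := (E : Set G)) (t := (D : Set G)) ?_ (Set.toFinite _)
    exact ⟨fun e he => he.1, fun hsub => hdx ((hmemE d).1 (hsub hd)).2⟩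
  have hcm : c < m := by
    rw [hc, hm] at hlt
    have h2 : 2 * c < 2 * m := (Nat.pow_lt_pow_iff_right hp.out.one_lt).1 (Nat.lt_of_mul_lt_mul_right hlt)
    omega
  refine ⟨c, hcm, ?_, fun hc0 d hd hdx => ?_⟩
  · haveI : Fact r.Prime := ⟨hr⟩
    letI : MulAction (Subgroup.zpowers x) D :=
      MulAction.compHom D ((MulAut.conjNormal (H := D)).comp (Subgroup.zpowers x).subtype)
    have hact : ∀ (g : Subgroup.zpowers x) (d : D), ((g • d : D) : G) = g * d * (g : G)⁻¹ :=
      fun g d => MulAut.conjNormal_apply _ _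
    have hpg : IsPGroup r (Subgroup.zpowers x) := by
      intro g
      obtain ⟨i, hi⟩ := g.2
      refine ⟨1, Subtype.ext ?_⟩
      simp only [pow_one, SubgroupClass.coe_pow, OneMemClass.coe_one, ← hi]
      rw [← zpow_natCast, ← zpow_mul, mul_comm, zpow_mul, zpow_natCast, hx, one_zpow]
    have hfix : Nat.card (MulAction.fixedPoints (Subgroup.zpowers x) D) = Nat.card E := by
      refine Nat.card_congr
        { toFun := fun d => ⟨d.1, (hmemE _).2 ⟨d.1.2, ?_⟩⟩
          invFun := fun e => ⟨⟨e, ((hmemE _).1 e.2).1⟩, fun g => Subtype.ext ?_⟩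
          left_inv := fun _ => rfl
          right_inv := fun _ => rfl }
      · have := congrArg Subtype.val (d.2 ⟨x, Subgroup.mem_zpowers x⟩)
        rw [hact] at this
        exact mul_inv_eq_iff_eq_mul.1 this
      · obtain ⟨i, hi⟩ := g.2
        rw [hact]
        show (g : G) * e * (g : G)⁻¹ = e
        rw [← hi, ((show Commute x (e : G) from ((hmemE _).1 e.2).2).zpow_left i).eq,
          mul_inv_cancel_right]
    have hmod := hpg.card_modEq_card_fixedPoints D
    rw [hfix, hc, hm] at hmod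
    obtain ⟨k, hk⟩ := IsPGroup.iff_card.1 (h.isPGroup.to_le (show Z ≤ D from inf_le_left))
    rw [hk, ← pow_add, ← pow_add, show 2 * m + k = (2 * c + k) + 2 * (m - c) by omega, pow_add] at hmod
    have h1 : p ^ (2 * c + k) * p ^ (2 * (m - c)) ≡ p ^ (2 * c + k) * 1 [MOD r] := by rwa [mul_one]
    exact (Nat.modEq_iff_dvd' (Nat.one_le_pow _ _ hp.out.pos)).1
      (h1.cancel_left_of_coprime (Nat.Coprime.pow_right _ ((Nat.coprime_primes hr hp.out).2 hrp))).symm
  · have hEZ : E = Z := by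
      refine (Subgroup.eq_of_le_of_card_ge (hcen ▸ inf_le_left) ?_).symm
      rw [hc, hc0]; simp
    exact (Subgroup.mem_inf.1 (hEZ ▸ (hmemE d).2 ⟨hd, hdx⟩)).2

end IsClassTwo

end Cfsg.Agent.Lib.SolvLinear
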