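import Cfsg.Agent.Lib.SolvLinear.Structure
import Cfsg.Agent.Lib.PPD.Zsigmondy
import Cfsg.Agent.Lib.PPD.Basic

/-!
# Solvable linear groups transitive on nonzero vectors: reduction to the exceptional cases
-/

set_option autoImplicit false

namespace Cfsg.Agent.Lib.SolvLinear

open Cfsg

variable {q : ℕ} [hq : Fact q.Prime] {V : Type*} [AddCommGroup V] [Module (ZMod q) V] [Finite V]
  [Nontrivial V] {G : Type*} [Group G] [Finite G] {ρ : G →* (V ≃ₗ[ZMod q] V)}

/-- Some normal abelian subgroup spans a field of full degree. -/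
def IsSemilinear (ρ : G →* (V ≃ₗ[ZMod q] V)) : Prop :=
  ∃ (A : Subgroup G) (_ : A.Normal), IsMulCommutative A ∧ degree ρ A = Module.finrank (ZMod q) V

theorem IsSemilinear.exists_field (ht : IsVecTransitive ρ) (h : IsSemilinear ρ) :
    ∃ (F : Type) (_ : Field F) (_ : Fintype F) (e : V ≃+ F),
      ∀ g : G, ∃ (a : F) (σ : F ≃+* F), ∀ v : V, e (ρ g v) = a * σ (e v) := by
  obtain ⟨A, hn, hA, hk⟩ := h
  exact semilinear_of_degree_eq ht A hA hk

theorem card_eq_pow : Nat.card V = q ^ Module.finrank (ZMod q) V := by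
  rw [Module.natCard_eq_pow_finrank (K := ZMod q), Nat.card_zmod]

omit [Finite G] in
theorem pow_sub_one_dvd_card (ht : IsVecTransitive ρ) :
    q ^ Module.finrank (ZMod q) V - 1 ∣ Nat.card G := by
  letI : MulAction G V := MulAction.compHom V ρ
  obtain ⟨v, hv⟩ := exists_ne (0 : V)
  have horb : MulAction.orbit G v = {0}ᶜ := by
    ext w
    constructor
    · rintro ⟨g, rfl⟩
      exact fun h => hv ((ρ g).map_eq_zero_iff.1 h)
    · intro hw
      obtain ⟨g, hg⟩ := ht v w hv hw
      exact ⟨g, hg⟩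
  have hcard : (MulAction.orbit G v).ncard = q ^ Module.finrank (ZMod q) V - 1 := by
    rw [horb, Set.ncard_compl, Set.ncard_singleton, card_eq_pow (q := q) (V := V)]
  rw [← hcard, ← MulAction.index_stabilizer]
  exact Subgroup.index_dvd_card _

theorem degree_le (ht : IsVecTransitive ρ) (A : Subgroup G) [A.Normal] (hA : IsMulCommutative A) :
    degree ρ A ≤ Module.finrank (ZMod q) V :=
  Nat.le_of_dvd Module.finrank_pos (degree_dvd ht A hA)

theorem degree_lt_of_not_semilinear (ht : IsVecTransitive ρ) (hns : ¬ IsSemilinear ρ)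
    (A : Subgroup G) [A.Normal] (hA : IsMulCommutative A) :
    degree ρ A < Module.finrank (ZMod q) V :=
  lt_of_le_of_ne (degree_le ht A hA) fun h => hns ⟨A, inferInstance, hA, h⟩

theorem exists_pCore_not_le {H : Subgroup G} (h : ¬ fittingSubgroup G ≤ H) :
    ∃ p : ℕ, p.Prime ∧ ¬ pCore p G ≤ H := by
  by_contra hc
  push Not at hc
  apply h
  rw [Cfsg.Agent.Lib.Fitting.fittingSubgroup_eq_iSup_pCore]
  exact iSup_le fun p => hc p p.2

/-- An element of prime order `r > n` dividing no normal abelian subgroup forces a class two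
normal subgroup of full size. -/
theorem exceptional [Group.IsSolvable G] (hρ : Function.Injective ρ) (ht : IsVecTransitive ρ) {r : ℕ}
    (hr : r.Prime) (hn : Module.finrank (ZMod q) V < r)
    (hA : ∀ A : Subgroup G, A.Normal → IsMulCommutative A → ¬ r ∣ Nat.card A)
    {x : G} (hx : x ^ r = 1) (hx1 : x ≠ 1) :
    ∃ (p : ℕ) (_ : Fact p.Prime) (D : Subgroup G) (m : ℕ), IsClassTwo p D ∧
      ¬ D ≤ Subgroup.centralizer (D : Set G) ∧ 1 ≤ m ∧ r ≠ p ∧
      Nat.card D = p ^ (2 * m) * Nat.card ↥(D ⊓ Subgroup.centralizer (D : Set G)) ∧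
      p ^ m = Module.finrank (ZMod q) V ∧ r = p ^ m + 1 ∧ p ∣ q - 1 ∧
      degree ρ (D ⊓ Subgroup.centralizer (D : Set G)) = 1 ∧
      Nat.card ↥(Subgroup.centralizer (D : Set G)) ∣ q - 1 := by
  haveI := Cfsg.Agent.Lib.Fitting.fittingSubgroup_normal (G := G)
  have hord : orderOf x = r := by
    haveI := Fact.mk hr
    exact orderOf_eq_prime hx hx1
  have hxF : ¬ fittingSubgroup G ≤ Subgroup.centralizer {x} := by
    intro hle
    have hxc : x ∈ Subgroup.centralizer (fittingSubgroup G : Set G) :=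
      Subgroup.mem_centralizer_iff.2 fun f hf =>
        Subgroup.mem_centralizer_singleton_iff.1 (hle hf)
    have hxm : x ∈ fittingSubgroup G ⊓ Subgroup.centralizer (fittingSubgroup G : Set G) :=
      ⟨Cfsg.Agent.Lib.Fitting.centralizer_fittingSubgroup_le hxc, hxc⟩
    exact hA _ inferInstance (center_comm _) (hord ▸ Subgroup.orderOf_dvd_natCard _ hxm)
  obtain ⟨p, hp, hnot⟩ := exists_pCore_not_le hxF
  haveI : Fact p.Prime := ⟨hp⟩
  obtain ⟨D, hDle, hmin⟩ :=
    (Set.toFinite {D : Subgroup G | D.Normal ∧ D ≤ pCore p G ∧ ¬ D ≤ Subgroup.centralizer {x}})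
      |>.exists_le_minimal ⟨inferInstance, le_refl (pCore p G), hnot⟩
  obtain ⟨hDn, hDp, hDx⟩ := hmin.1
  haveI := hDn
  have hpD : IsPGroup p D := (Cfsg.Agent.Lib.PSolvable.pCore_isPGroup (p := p) (G := G)).to_le hDp
  have hne : ¬ D ≤ Subgroup.centralizer (D : Set G) := by
    intro hab
    have hc : IsMulCommutative D :=
      ⟨⟨fun a b => Subtype.ext (Subgroup.mem_centralizer_iff.1 (hab b.2) a a.2)⟩⟩
    refine hDx fun d hd => Subgroup.mem_centralizer_singleton_iff.2 ?_
    exact (commute_of_prime_order ht D hc hρ hr hx ((degree_le ht D hc).trans_lt hn) d hd).symm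
  have hbot : D ≠ ⊥ := fun h => hne (h ▸ bot_le)
  set Z := D ⊓ Subgroup.centralizer (D : Set G) with hZ
  have hrp : r ≠ p := by
    rintro rfl
    refine hA Z inferInstance (center_comm D) ?_
    haveI : Nontrivial D := (Subgroup.nontrivial_iff_ne_bot D).2 hbot
    haveI := hpD.center_nontrivial
    obtain ⟨k, hk⟩ := IsPGroup.iff_card.1 (hpD.to_le (show Z ≤ D from inf_le_left))
    rw [hk]
    refine dvd_pow_self r ?_
    rintro rfl
    rw [pow_zero, Subgroup.card_eq_one] at hk
    obtain ⟨⟨z, hz⟩, hz1⟩ := exists_ne (1 : Subgroup.center D)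
    refine hz1 (Subtype.ext (Subtype.ext ?_))
    have : (z : G) ∈ Z := ⟨z.2, Subgroup.mem_centralizer_iff.2 fun d hd =>
      congrArg Subtype.val (Subgroup.mem_center_iff.1 hz ⟨d, hd⟩)⟩
    rwa [hk, Subgroup.mem_bot] at this
  have hforall : ∀ U : Subgroup G, U.Normal → U ≤ D → U ≠ D →
      U ≤ Subgroup.centralizer (D : Set G) := by
    intro U hU hUD hne'
    haveI := hU
    have hUx : U ≤ Subgroup.centralizer {x} := by
      by_contra hc
      exact hne' (le_antisymm hUD (hmin.2 ⟨hU, hUD.trans hDp, hc⟩ hUD))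
    have hC : D ⊓ Subgroup.centralizer (U : Set G) = D := by
      by_contra hne''
      haveI : (D ⊓ Subgroup.centralizer (U : Set G)).Normal := inferInstance
      have hCx : D ⊓ Subgroup.centralizer (U : Set G) ≤ Subgroup.centralizer {x} := by
        by_contra hc
        exact hne'' (le_antisymm inf_le_left (hmin.2 ⟨inferInstance, inf_le_left.trans hDp, hc⟩ inf_le_left))
      refine hDx fun d hd => ?_
      set c := x * d * x⁻¹ * d⁻¹ with hc
      have hcD : c ∈ D := D.mul_mem (hDn.conj_mem d hd x) (D.inv_mem hd)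
      have hxu : ∀ u ∈ U, Commute x u := fun u hu =>
        (Subgroup.mem_centralizer_singleton_iff.1 (hUx hu)).symm
      have hcU : c ∈ Subgroup.centralizer (U : Set G) := Subgroup.mem_centralizer_iff.2 fun u hu => by
        have h1 : d⁻¹ * u * d ∈ U := by simpa using hU.conj_mem u hu d⁻¹
        have h2 : Commute x (d⁻¹ * u * d) := hxu _ h1
        have h3 : Commute x u := hxu u hu
        symm
        calc c * u = (x * d * x⁻¹) * (d⁻¹ * u * d) * d⁻¹ := by rw [hc]; group
          _ = (x * d) * ((d⁻¹ * u * d) * x⁻¹) * d⁻¹ := by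
            rw [show (x * d * x⁻¹) * (d⁻¹ * u * d) = (x * d) * (x⁻¹ * (d⁻¹ * u * d)) by group,
              h2.inv_left.eq]
          _ = (x * u) * d * x⁻¹ * d⁻¹ := by group
          _ = (u * x) * d * x⁻¹ * d⁻¹ := by rw [h3.eq]
          _ = u * c := by rw [hc]; group
      have hxc : Commute x c := (Subgroup.mem_centralizer_singleton_iff.1 (hCx ⟨hcD, hcU⟩)).symm
      have hiter : ∀ j : ℕ, x ^ j * d * (x ^ j)⁻¹ = c ^ j * d := by
        intro j
        induction j with
        | zero => simp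
        | succ j ihj =>
          calc x ^ (j + 1) * d * (x ^ (j + 1))⁻¹ = x * (x ^ j * d * (x ^ j)⁻¹) * x⁻¹ := by
                rw [pow_succ']; group
            _ = (x * c ^ j) * d * x⁻¹ := by rw [ihj]; group
            _ = (c ^ j * x) * d * x⁻¹ := by rw [(hxc.pow_right j).eq]
            _ = c ^ (j + 1) * d := by rw [pow_succ, hc]; group
      have hcr : c ^ r = 1 := by
        have := hiter r
        rw [hx, inv_one, one_mul, mul_one] at this
        exact right_eq_mul.1 this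
      obtain ⟨k, hk⟩ := hpD ⟨c, hcD⟩
      have hk' : c ^ p ^ k = 1 := by simpa using congrArg Subtype.val hk
      have hg : Nat.gcd r (p ^ k) = 1 := Nat.Coprime.pow_right _ ((Nat.coprime_primes hr hp).2 hrp)
      have hc1 : c = 1 := by simpa [hg] using pow_gcd_eq_one.2 ⟨hcr, hk'⟩
      rw [Subgroup.mem_centralizer_singleton_iff]
      exact (comm_eq_one_iff.1 hc1).symm
    intro u hu
    refine Subgroup.mem_centralizer_iff.2 fun d hd => ?_
    exact (Subgroup.mem_centralizer_iff.1 (Subgroup.mem_inf.1 (hC.ge hd)).2 u hu).symm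
  have h2 := isClassTwo_of_forall hDn hpD hbot hforall
  obtain ⟨m, hm1, hm, hle, hpk, hfull⟩ := classTwo_bound hρ ht h2 hne
  rw [← hZ] at hm hle hpk hfull
  have hZc := center_comm D
  have hxz : ∀ z ∈ Z, x * z = z * x :=
    commute_of_prime_order ht Z hZc hρ hr hx ((degree_le ht Z hZc).trans_lt hn)
  have hxD : ∃ d ∈ D, x * d ≠ d * x := by
    by_contra hc
    push Not at hc
    exact hDx fun d hd => Subgroup.mem_centralizer_singleton_iff.2 (hc d hd).symm
  obtain ⟨c, hcm, hdvd, -⟩ :=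
    h2.coprime_action hne (isCyclic_normal_abelian ht Z hZc hρ) hm hr hrp hx hxz hxD
  have hk := degree_pos ht Z hZc
  have hrle : r ≤ p ^ m + 1 := by
    have hpe : p ^ (m - c) ≤ p ^ m := Nat.pow_le_pow_right hp.pos (by omega)
    have h1 : 1 < p ^ (m - c) := Nat.one_lt_pow (by omega) hp.one_lt
    rw [show 2 * (m - c) = (m - c) * 2 by ring, pow_mul,
      show (p ^ (m - c)) ^ 2 - 1 = (p ^ (m - c) + 1) * (p ^ (m - c) - 1) by
        rw [← one_pow 2, Nat.sq_sub_sq, one_pow]] at hdvd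
    rcases (Nat.Prime.dvd_mul hr).1 hdvd with h | h
    · have := Nat.le_of_dvd (by omega) h; omega
    · have := Nat.le_of_dvd (by omega) h; omega
  have hle' : p ^ m ≤ p ^ m * degree ρ Z := Nat.le_mul_of_pos_right _ hk
  have heq : p ^ m * degree ρ Z = Module.finrank (ZMod q) V := by omega
  have hdeg : degree ρ Z = 1 := by
    have h3 : p ^ m * degree ρ Z = p ^ m * 1 := by omega
    exact Nat.eq_of_mul_eq_mul_left (pow_pos hp.pos m) h3
  refine ⟨p, ⟨hp⟩, D, m, h2, hne, hm1, hrp, hm, by omega, by omega, ?_, hdeg, ?_⟩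
  · rwa [hdeg, pow_one] at hpk
  · have := (hfull heq).1
    rwa [hdeg, pow_one] at this

/-- Non-semilinear groups in dimension two: a class two normal `2`-subgroup of index dividing `24 (q-1)`. -/
theorem exists_classTwo_two [Group.IsSolvable G] (hρ : Function.Injective ρ) (ht : IsVecTransitive ρ)
    (hns : ¬ IsSemilinear ρ) (hn : Module.finrank (ZMod q) V = 2) :
    ∃ D : Subgroup G, IsClassTwo 2 D ∧ ¬ D ≤ Subgroup.centralizer (D : Set G) ∧
      Nat.card D = 4 * Nat.card ↥(D ⊓ Subgroup.centralizer (D : Set G)) ∧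
      Nat.card ↥(Subgroup.centralizer (D : Set G)) ∣ q - 1 ∧ 2 ∣ q - 1 ∧
      (∀ y ∈ Subgroup.centralizer (D : Set G), ∀ g : G, g * y = y * g) ∧
      (∀ A : Subgroup G, A.Normal → IsMulCommutative A → ∀ a ∈ A, ∀ g : G, g * a = a * g) := by
  have hk : ∀ A : Subgroup G, A.Normal → IsMulCommutative A → degree ρ A = 1 := by
    intro A hAn hA
    haveI := hAn
    have h1 := degree_lt_of_not_semilinear ht hns A hA
    have h2 := degree_pos ht A hA
    omega
  have hcen : ∀ A : Subgroup G, A.Normal → IsMulCommutative A → ∀ a ∈ A, ∀ g : G, g * a = a * g := by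
    intro A hAn hA a ha g
    haveI := hAn
    haveI : Finite (Module.End (ZMod q) V) :=
      Finite.of_injective (fun f : Module.End (ZMod q) V => ⇑f) DFunLike.coe_injective
    haveI : Finite (alg ρ A ≃ₐ[ZMod q] alg ρ A) :=
      Finite.of_injective (fun e : alg ρ A ≃ₐ[ZMod q] alg ρ A => ⇑e) DFunLike.coe_injective
    haveI : Subsingleton (alg ρ A ≃ₐ[ZMod q] alg ρ A) :=
      Finite.card_le_one_iff_subsingleton.1 ((card_aut_le ht A hA).trans (hk A hAn hA).le)
    exact (conjAut_eq_one_iff hρ A g).1 (Subsingleton.elim _ _) a ha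
  obtain ⟨p, hp, hnot⟩ : ∃ p : ℕ, p.Prime ∧
      ¬ pCore p G ≤ Subgroup.centralizer (pCore p G : Set G) := by
    by_contra hc
    push Not at hc
    have hF : fittingSubgroup G ≤ Subgroup.center G := by
      rw [Cfsg.Agent.Lib.Fitting.fittingSubgroup_eq_iSup_pCore]
      refine iSup_le fun p a ha => Subgroup.mem_center_iff.2 fun g => ?_
      exact hcen _ inferInstance
        ⟨⟨fun a b => Subtype.ext (Subgroup.mem_centralizer_iff.1 (hc p p.2 b.2) a a.2)⟩⟩ a ha g
    have htop : ∀ y : G, y ∈ fittingSubgroup G := fun y =>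
      Cfsg.Agent.Lib.Fitting.centralizer_fittingSubgroup_le (Subgroup.mem_centralizer_iff.2 fun f hf =>
        (Subgroup.mem_center_iff.1 (hF hf) y).symm)
    have hab : IsMulCommutative (⊤ : Subgroup G) :=
      ⟨⟨fun a b => Subtype.ext (Subgroup.mem_center_iff.1 (hF (htop b)) a)⟩⟩
    have h1 := natCard_dvd_degree ht ⊤ hab hρ
    rw [hk ⊤ inferInstance hab, pow_one, Subgroup.card_top] at h1
    have h2 := (pow_sub_one_dvd_card ht).trans h1
    rw [hn] at h2
    have hq2 := hq.out.two_le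
    have h4 : 2 * q ≤ q ^ 2 := by rw [pow_two]; exact Nat.mul_le_mul_right _ hq2
    have := Nat.le_of_dvd (by omega) h2
    omega
  haveI : Fact p.Prime := ⟨hp⟩
  obtain ⟨D, hDle, hmin⟩ :=
    (Set.toFinite {D : Subgroup G | D.Normal ∧ D ≤ pCore p G ∧ ¬ D ≤ Subgroup.centralizer (D : Set G)})
      |>.exists_le_minimal ⟨inferInstance, le_refl (pCore p G), hnot⟩
  obtain ⟨hDn, hDp, hne⟩ := hmin.1
  haveI := hDn
  have hpD : IsPGroup p D := (Cfsg.Agent.Lib.PSolvable.pCore_isPGroup (p := p) (G := G)).to_le hDp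
  have h2 := isClassTwo_of_forall hDn hpD (fun h => hne (h ▸ bot_le)) fun U hU hUD hne' u hu => by
    have hUc : U ≤ Subgroup.centralizer (U : Set G) := by
      by_contra hc
      exact hne' (le_antisymm hUD (hmin.2 ⟨hU, hUD.trans hDp, hc⟩ hUD))
    exact Subgroup.mem_centralizer_iff.2 fun d _ => hcen U hU
      ⟨⟨fun a b => Subtype.ext (Subgroup.mem_centralizer_iff.1 (hUc b.2) a a.2)⟩⟩ u hu d
  obtain ⟨m, hm1, hm, hle, hpk, hfull⟩ := classTwo_bound hρ ht h2 hne
  set Z := D ⊓ Subgroup.centralizer (D : Set G) with hZ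
  have hk1 : degree ρ Z = 1 := hk Z inferInstance (center_comm D)
  rw [hk1, mul_one, hn] at hle hfull
  have h3 : p ^ 1 ≤ p ^ m := Nat.pow_le_pow_right hp.pos hm1
  obtain rfl : p = 2 := by have := hp.two_le; simp only [pow_one] at h3; omega
  obtain rfl : m = 1 := by
    by_contra hne1
    have : 2 ^ 2 ≤ 2 ^ m := Nat.pow_le_pow_right (by norm_num) (by omega)
    omega
  rw [hk1, pow_one] at hpk
  simp only [pow_one] at hfull
  obtain ⟨hC, hscal⟩ := hfull (by norm_num)
  refine ⟨D, h2, hne, hm.trans rfl, hC, hpk, fun y hy g => ?_, hcen⟩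
  have hbot := Subalgebra.eq_bot_of_finrank_one hk1
  have h4 := hscal y hy
  rw [hbot, Algebra.mem_bot] at h4
  obtain ⟨c, hc⟩ := h4
  refine endHom_injective ρ hρ ?_
  rw [map_mul, map_mul, ← hc, Algebra.commutes]

/-- Dimension six over the field of two elements. -/
theorem semilinear_two_six [Group.IsSolvable G] (hρ : Function.Injective ρ) (ht : IsVecTransitive ρ)
    (hq2 : q = 2) (hn : Module.finrank (ZMod q) V = 6) : IsSemilinear ρ := by
  subst hq2
  by_contra hns
  haveI : Fact (Nat.Prime 7) := ⟨by norm_num⟩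
  have hcard := pow_sub_one_dvd_card ht
  rw [hn] at hcard
  norm_num at hcard
  by_cases hA : ∀ A : Subgroup G, A.Normal → IsMulCommutative A → ¬ 7 ∣ Nat.card A
  · obtain ⟨x, hx⟩ := exists_prime_orderOf_dvd_card' (G := G) 7 ((by norm_num : 7 ∣ 63).trans hcard)
    obtain ⟨p, hp, D, m, -, -, -, -, -, hpm, -⟩ := exceptional hρ ht (r := 7) (x := x) (by norm_num)
      (by omega) hA (hx ▸ pow_orderOf_eq_one x) (fun h => by simp [h] at hx)
    rw [hn] at hpm
    have hp2 := hp.out.two_le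
    rcases m with _ | _ | _ | m
    · simp at hpm
    · rw [pow_one] at hpm; exact absurd (hpm ▸ hp.out) (by norm_num)
    · simp only [zero_add, pow_succ, pow_zero, one_mul] at hpm
      have : p ≤ 2 := by
        by_contra h
        have : 3 * 3 ≤ p * p := Nat.mul_le_mul (by omega) (by omega)
        omega
      interval_cases p; norm_num at hpm
    · have hpm' : p ^ (m + 3) = 6 := hpm
      have : 2 ^ 3 ≤ p ^ (m + 3) :=
        (Nat.pow_le_pow_left hp2 3).trans (Nat.pow_le_pow_right hp.out.pos (by omega))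
      omega
  push Not at hA
  obtain ⟨A, hAn, hAc, h7A⟩ := hA
  haveI := hAn
  haveI := Cfsg.Agent.Lib.Fitting.fittingSubgroup_normal (G := G)
  set F := fittingSubgroup G with hF
  set Z := F ⊓ Subgroup.centralizer (F : Set G) with hZ
  have hzc := center_comm (G := G) F
  -- the centre of every nontrivial `p`-core is central in the Fitting subgroup
  have hcore : ∀ p : ℕ, p.Prime → pCore p G ≠ ⊥ → p ∣ Nat.card Z := by
    intro p hp hne
    haveI : Fact p.Prime := ⟨hp⟩
    haveI : Nontrivial (pCore p G) := (Subgroup.nontrivial_iff_ne_bot _).2 hne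
    have hpg := Cfsg.Agent.Lib.PSolvable.pCore_isPGroup (p := p) (G := G)
    haveI := hpg.center_nontrivial
    obtain ⟨⟨z, hz⟩, hz1⟩ := exists_ne (1 : Subgroup.center (pCore p G))
    have hzZ : (z : G) ∈ Z := by
      refine ⟨Cfsg.Agent.Lib.Fitting.pCore_le_fittingSubgroup p z.2, ?_⟩
      have : F ≤ Subgroup.centralizer {(z : G)} := by
        rw [hF, Cfsg.Agent.Lib.Fitting.fittingSubgroup_eq_iSup_pCore]
        refine iSup_le fun s => ?_
        haveI : Fact (s : ℕ).Prime := ⟨s.2⟩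
        intro w hw
        rw [Subgroup.mem_centralizer_singleton_iff]
        by_cases hsp : (s : ℕ) = p
        · have hw' : w ∈ pCore p G := hsp ▸ hw
          exact congrArg Subtype.val (Subgroup.mem_center_iff.1 hz ⟨w, hw'⟩)
        · exact Subgroup.commute_of_normal_of_disjoint _ _ inferInstance inferInstance
            (IsPGroup.disjoint_of_ne (s : ℕ) p hsp _ _
              (Cfsg.Agent.Lib.PSolvable.pCore_isPGroup (p := (s : ℕ)) (G := G)) hpg) w z hw z.2
      exact Subgroup.mem_centralizer_iff.2 fun f hf => Subgroup.mem_centralizer_singleton_iff.1 (this hf)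
    obtain ⟨k, hk⟩ := hpg.exists_card_eq
    have hord : orderOf (z : G) ∣ p ^ k := hk ▸ Subgroup.orderOf_dvd_natCard _ z.2
    have hne1 : orderOf (z : G) ≠ 1 := fun h =>
      hz1 (Subtype.ext (Subtype.ext (orderOf_eq_one_iff.1 h)))
    obtain ⟨j, -, hj⟩ := (Nat.dvd_prime_pow hp).1 hord
    have hj0 : j ≠ 0 := fun h0 => hne1 (by rw [hj, h0, pow_zero])
    exact ((dvd_pow_self p hj0).trans hj.symm.dvd).trans (Subgroup.orderOf_dvd_natCard _ hzZ)
  have h7 : 7 ∣ Nat.card Z := by
    refine hcore 7 (by norm_num) fun hbot => ?_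
    obtain ⟨a, ha⟩ := exists_prime_orderOf_dvd_card' (G := A) 7 h7A
    obtain ⟨P⟩ := (inferInstance : Nonempty (Sylow 7 A))
    haveI : (P : Subgroup A).Characteristic := by
      haveI : IsMulCommutative A := hAc
      exact P.characteristic_of_normal inferInstance
    have hle := Cfsg.Agent.Lib.PSolvable.le_pCore (G := G) (P.2.map A.subtype)
    rw [hbot, le_bot_iff, Subgroup.map_eq_bot_iff_of_injective _ A.subtype_injective] at hle
    exact P.ne_bot_of_dvd_card h7A hle
  have hk := natCard_dvd_degree ht Z hzc hρ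
  have hklt := degree_lt_of_not_semilinear ht hns Z hzc
  have hkd := degree_dvd ht Z hzc
  rw [hn] at hklt hkd
  have hk3 : degree ρ Z = 3 := by
    have h63 := h7.trans hk
    interval_cases degree ρ Z <;> simp_all
  rw [hk3] at hk
  norm_num at hk
  have hZ7 : Nat.card Z = 7 :=
    ((Nat.dvd_prime (by norm_num)).1 hk).resolve_left fun h => by rw [h] at h7; norm_num at h7
  have hFp : IsPGroup 7 F := by
    refine (Cfsg.Agent.Lib.PSolvable.pCore_isPGroup (p := 7) (G := G)).to_le ?_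
    rw [hF, Cfsg.Agent.Lib.Fitting.fittingSubgroup_eq_iSup_pCore]
    refine iSup_le fun s => ?_
    by_cases hb : pCore (s : ℕ) G = ⊥
    · rw [hb]; exact bot_le
    have := hcore _ s.2 hb
    rw [hZ7] at this
    rw [(Nat.prime_dvd_prime_iff_eq s.2 (by norm_num)).1 this]
  obtain ⟨j, hj⟩ := hFp.exists_card_eq
  have hGL : Nat.card F ∣ Nat.card (GL (Fin 6) (ZMod 2)) := by
    let b := Module.finBasisOfFinrankEq (ZMod 2) V hn
    let e : (V ≃ₗ[ZMod 2] V) ≃* GL (Fin 6) (ZMod 2) :=
      (LinearMap.GeneralLinearGroup.generalLinearEquiv (ZMod 2) V).symm.trans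
        (Units.mapEquiv (algEquivMatrix b).toMulEquiv)
    exact Subgroup.card_dvd_of_injective ((e.toMonoidHom.comp ρ).comp F.subtype)
      ((e.injective.comp hρ).comp F.subtype_injective)
  rw [hj, Matrix.card_GL_field] at hGL
  simp only [Fintype.card_fin, ZMod.card, Fin.prod_univ_six] at hGL
  norm_num at hGL
  have hj2 : j ≤ 2 := by
    by_contra hc
    have : 7 ^ 3 ∣ 20158709760 := (pow_dvd_pow 7 (by omega)).trans hGL
    norm_num at this
  have hFab : ∀ a ∈ F, ∀ b ∈ F, a * b = b * a := by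
    intro a ha b hb
    interval_cases j
    · rw [pow_zero, Subgroup.card_eq_one] at hj
      rw [hj, Subgroup.mem_bot] at ha hb
      rw [ha, hb]
    · haveI : IsCyclic F := isCyclic_of_prime_card (p := 7) (by simpa using hj)
      letI := IsCyclic.commGroup (α := F)
      exact congrArg Subtype.val (mul_comm (⟨a, ha⟩ : F) ⟨b, hb⟩)
    · exact congrArg Subtype.val (IsPGroup.commutative_of_card_eq_prime_sq hj (⟨a, ha⟩ : F) ⟨b, hb⟩)
  have hZF : Z = F := inf_eq_left.2 fun a ha =>
    Subgroup.mem_centralizer_iff.2 fun b hb => hFab b hb a ha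
  rw [hZF] at hZ7
  let f : G →* MulAut F := MulAut.conjNormal
  have hker : f.ker ≤ F := by
    refine fun g hg => Cfsg.Agent.Lib.Fitting.centralizer_fittingSubgroup_le ?_
    refine Subgroup.mem_centralizer_iff.2 fun a ha => ?_
    have := congrArg Subtype.val (DFunLike.congr_fun (MonoidHom.mem_ker.1 hg) ⟨a, ha⟩)
    rw [MulAut.conjNormal_apply] at this
    exact (mul_inv_eq_iff_eq_mul.1 this).symm
  have h42 : Nat.card G ≤ 42 := by
    rw [Subgroup.card_eq_card_quotient_mul_card_subgroup f.ker,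
      Nat.card_congr (QuotientGroup.quotientKerEquivRange f).toEquiv]
    haveI : IsCyclic F := isCyclic_of_prime_card (p := 7) hZ7
    have h1 : Nat.card f.range ≤ 6 := by
      refine (Subgroup.card_le_card_group _).trans ?_
      rw [Nat.card_congr (IsCyclic.mulAutMulEquiv F).toEquiv, hZ7, Nat.card_eq_fintype_card,
        ZMod.card_units_eq_totient]
      decide
    exact Nat.mul_le_mul h1 ((Subgroup.card_le_of_le hker).trans hZ7.le)
  have := Nat.le_of_dvd Nat.card_pos hcard
  omega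

/-- In dimension at least three the only exception is `q = 3`, `n = 4`. -/
theorem semilinear_or_three_four [Group.IsSolvable G] (hρ : Function.Injective ρ)
    (ht : IsVecTransitive ρ) (hn : 3 ≤ Module.finrank (ZMod q) V) :
    IsSemilinear ρ ∨ (q = 3 ∧ Module.finrank (ZMod q) V = 4 ∧ 32 ∣ Nat.card G) := by
  by_cases h26 : q = 2 ∧ Module.finrank (ZMod q) V = 6
  · exact Or.inl (semilinear_two_six hρ ht h26.1 h26.2)
  refine or_iff_not_imp_left.2 fun hns => ?_
  set n := Module.finrank (ZMod q) V with hndef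
  have hq1 : 1 ≤ q := hq.out.one_lt.le
  have hcard := pow_sub_one_dvd_card ht
  rw [← hndef] at hcard
  have key : ∀ s : ℕ, s.Prime → s ∣ q ^ n - 1 → (∀ i, 0 < i → i < n → ¬ s ∣ q ^ i - 1) →
      ∃ (p : ℕ) (_ : Fact p.Prime) (D : Subgroup G) (m : ℕ), IsClassTwo p D ∧
        ¬ D ≤ Subgroup.centralizer (D : Set G) ∧ 1 ≤ m ∧ s ≠ p ∧
        Nat.card D = p ^ (2 * m) * Nat.card ↥(D ⊓ Subgroup.centralizer (D : Set G)) ∧
        p ^ m = n ∧ s = p ^ m + 1 ∧ p ∣ q - 1 ∧
        degree ρ (D ⊓ Subgroup.centralizer (D : Set G)) = 1 ∧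
        Nat.card ↥(Subgroup.centralizer (D : Set G)) ∣ q - 1 := by
    intro s hs hsd hprim
    have hlt : n < s := Cfsg.Agent.Lib.PPD.lt_of_primitive hs hq1 (by omega) hsd
      fun i hi hin => hprim i hi hin
    haveI := Fact.mk hs
    obtain ⟨x, hx⟩ := exists_prime_orderOf_dvd_card' (G := G) s (hsd.trans hcard)
    refine exceptional hρ ht hs hlt (fun A hAn hA hsA => ?_) (x := x) (hx ▸ pow_orderOf_eq_one x)
      (fun h => by rw [h, orderOf_one] at hx; exact hs.one_lt.ne hx)
    haveI := hAn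
    exact hprim _ (degree_pos ht A hA) (degree_lt_of_not_semilinear ht hns A hA)
      (hsA.trans (natCard_dvd_degree ht A hA hρ))
  obtain ⟨r, hr, hrd, hrp⟩ := Cfsg.Agent.Lib.PPD.exists_primitive_prime (a := q) hq.out.two_le
    (show 2 ≤ n by omega) h26 (fun h => by omega)
  obtain ⟨p, hp, D, m, h2, hne, hm1, hrne, hm, hpm, hreq, hpq, hdeg, hC⟩ := key r hr hrd hrp
  obtain rfl : p = 2 := by
    by_contra hne2
    have hodd : Odd (p ^ m) := (hp.out.odd_of_ne_two hne2).pow
    have : ¬ Even r := fun he => by have := (Nat.Prime.even_iff hr).1 he; omega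
    exact this (hreq ▸ hodd.add_one)
  obtain ⟨i, rfl⟩ : ∃ i, m = i + 2 := ⟨m - 2, by
    rcases m with _ | _ | m
    · simp at hpm; omega
    · simp at hpm; omega
    · omega⟩
  have hqodd : Odd q := hq.out.odd_of_ne_two fun h => by subst h; norm_num at hpq
  set h := q ^ (n / 2) with hh
  have hn2 : n = n / 2 + n / 2 := by
    rw [← hpm, pow_succ]; omega
  have hprim : ∀ s : ℕ, s.Prime → s ≠ 2 → s ∣ h + 1 →
      s ∣ q ^ n - 1 ∧ ∀ j, 0 < j → j < n → ¬ s ∣ q ^ j - 1 := by
    intro s hs hs2 hsd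
    have hqn : q ^ n = h ^ 2 := by rw [hh, ← pow_mul, mul_two, ← hn2]
    have hd : s ∣ q ^ n - 1 := by
      rw [hqn, ← one_pow 2, Nat.sq_sub_sq]
      exact hsd.mul_right _
    refine ⟨hd, fun j hj hjn hsj => hs2 ?_⟩
    have hg : s ∣ q ^ (Nat.gcd j n) - 1 := by
      rw [← Nat.pow_sub_one_gcd_pow_sub_one]; exact Nat.dvd_gcd hsj hd
    obtain ⟨t, ht', hge⟩ := (Nat.dvd_prime_pow Nat.prime_two).1
      (hpm ▸ Nat.gcd_dvd_right j n : Nat.gcd j n ∣ 2 ^ (i + 2))
    have htlt : t ≤ i + 1 := by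
      by_contra hc
      obtain rfl : t = i + 2 := by omega
      have := Nat.le_of_dvd hj (Nat.gcd_dvd_left j n)
      omega
    have hdvd : Nat.gcd j n ∣ n / 2 := by
      rw [hge, show n / 2 = 2 ^ (i + 1) by rw [← hpm, pow_succ]; omega]
      exact pow_dvd_pow 2 htlt
    have h3 : s ∣ h - 1 := hg.trans (Nat.pow_sub_one_dvd_pow_sub_one q hdvd)
    have hpos : 1 ≤ h := Nat.one_le_pow _ _ hq.out.pos
    have h4 : s ∣ (h + 1) - (h - 1) := Nat.dvd_sub hsd h3
    rw [show h + 1 - (h - 1) = 2 by omega] at h4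
    exact (Nat.prime_dvd_prime_iff_eq hs Nat.prime_two).1 h4
  have hsr : ∀ s : ℕ, s.Prime → s ≠ 2 → s ∣ h + 1 → s = r := by
    intro s hs hs2 hsd
    obtain ⟨hd, hpr⟩ := hprim s hs hs2 hsd
    obtain ⟨p', _, D', m', -, -, -, -, -, hpm', hs', -⟩ := key s hs hd hpr
    omega
  have hh4 : (h + 1) % 4 = 2 := by
    have hev : h = (q ^ (2 ^ i)) ^ 2 := by
      rw [hh, ← pow_mul, show n / 2 = 2 ^ i * 2 by rw [← hpm, pow_succ, pow_succ]; omega]
    obtain ⟨a, ha⟩ : Odd (q ^ (2 ^ i)) := hqodd.pow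
    rw [hev, ha, show (2 * a + 1) ^ 2 = 4 * (a * a + a) + 1 by ring]
    omega
  obtain ⟨o, ho⟩ : ∃ o, h + 1 = 2 * o := ⟨(h + 1) / 2, by omega⟩
  have hoodd : ∀ s : ℕ, s.Prime → s ∣ o → s = r := fun s hs hso => by
    refine hsr s hs (fun h2' => ?_) (ho ▸ hso.mul_left 2)
    subst h2'
    obtain ⟨o', rfl⟩ := hso
    omega
  have hopow : o = r ^ o.primeFactorsList.length :=
    Nat.eq_prime_pow_of_unique_prime_dvd (by omega) fun {d} hd hdd => hoodd d hd hdd
  -- a Sylow `r`-subgroup acts semiregularly on `D` minus its centre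
  set Z := D ⊓ Subgroup.centralizer (D : Set G) with hZ
  haveI := h2.normal
  haveI := Fact.mk hr
  obtain ⟨R⟩ := (inferInstance : Nonempty (Sylow r G))
  have hRdvd : o ∣ Nat.card R := by
    have hog : o ∣ Nat.card G := by
      refine (dvd_trans ?_ hcard)
      have hqn : q ^ n = h ^ 2 := by rw [hh, ← pow_mul, mul_two, ← hn2]
      rw [hqn, ← one_pow 2, Nat.sq_sub_sq, ho]
      exact (dvd_mul_left o 2).mul_right _
    rw [hopow, R.card_eq_multiplicity]
    rw [hopow] at hog
    exact pow_dvd_pow r ((hr.pow_dvd_iff_le_factorization Nat.card_pos.ne').1 hog)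
  have hzc := center_comm (G := G) D
  have hZq : Nat.card Z ∣ q - 1 := by
    have := natCard_dvd_degree ht Z hzc hρ
    rwa [hdeg, pow_one] at this
  have hrq : ¬ r ∣ q - 1 := fun hd => hrp 1 one_pos (by omega) (by rwa [pow_one])
  have hfree : ∀ y ∈ (R : Subgroup G), y ≠ 1 → ∀ d ∈ D, y * d = d * y → d ∈ Z := by
    intro y hy hy1 d hd hyd
    obtain ⟨j, hj⟩ := R.2 ⟨y, hy⟩
    have hj' : y ^ r ^ j = 1 := by simpa using congrArg Subtype.val hj
    obtain ⟨k, -, hk⟩ := (Nat.dvd_prime_pow hr).1 (orderOf_dvd_of_pow_eq_one hj')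
    obtain ⟨l, rfl⟩ : ∃ l, k = l + 1 := Nat.exists_eq_succ_of_ne_zero fun h0 =>
      hy1 (orderOf_eq_one_iff.1 (by rw [hk, h0, pow_zero]))
    set x := y ^ r ^ l with hx
    have hxord : orderOf x = r := by
      rw [hx, orderOf_pow' _ (pow_ne_zero _ hr.ne_zero), hk, Nat.gcd_eq_right (pow_dvd_pow r l.le_succ),
        pow_succ', Nat.mul_div_cancel _ (pow_pos hr.pos l)]
    have hxr : x ^ r = 1 := hxord ▸ pow_orderOf_eq_one x
    have hxD : ∃ d ∈ D, x * d ≠ d * x := by
      by_contra hc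
      push Not at hc
      refine hrq (dvd_trans ?_ hC)
      exact hxord ▸ Subgroup.orderOf_dvd_natCard _ (Subgroup.mem_centralizer_iff.2 fun d hd => (hc d hd).symm)
    have hxz : ∀ z ∈ Z, x * z = z * x :=
      commute_of_prime_order ht Z hzc hρ hr hxr (by rw [hdeg]; exact hr.one_lt)
    obtain ⟨c, hcm, hdvd, hc0⟩ :=
      h2.coprime_action hne (isCyclic_normal_abelian ht Z hzc hρ) hm hr hrne hxr hxz hxD
    refine ⟨hd, hc0 ?_ d hd ((show Commute y d from hyd).pow_left _).eq⟩
    by_contra hc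
    have h1 : 1 < 2 ^ (i + 2 - c) := Nat.one_lt_pow (by omega) one_lt_two
    have h2' : 2 ^ (i + 2 - c) ≤ 2 ^ (i + 1) := Nat.pow_le_pow_right two_pos (by omega)
    have h2'' : 2 ^ (i + 2) = 2 * 2 ^ (i + 1) := pow_succ' 2 (i + 1)
    rw [show 2 * (i + 2 - c) = (i + 2 - c) * 2 by ring, pow_mul,
      show (2 ^ (i + 2 - c)) ^ 2 - 1 = (2 ^ (i + 2 - c) + 1) * (2 ^ (i + 2 - c) - 1) by
        rw [← one_pow 2, Nat.sq_sub_sq, one_pow]] at hdvd
    rcases (Nat.Prime.dvd_mul hr).1 hdvd with h' | h'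
    · have := Nat.le_of_dvd (by omega) h'; omega
    · have := Nat.le_of_dvd (by omega) h'; omega
  have hRr : Nat.card R ∣ r := by
    let X : Type _ := {d : G // d ∈ D ∧ d ∉ Z}
    have hmem : ∀ (y : G) (d : X), y * d * y⁻¹ ∈ D ∧ y * d * y⁻¹ ∉ Z := fun y d =>
      ⟨h2.normal.conj_mem _ d.2.1 y, fun hz => d.2.2 (by
        have := (inferInstance : Z.Normal).conj_mem _ hz y⁻¹
        simpa [mul_assoc] using this)⟩
    letI : MulAction (R : Subgroup G) X :=
      { smul := fun y d => ⟨y * d * (y : G)⁻¹, hmem y d⟩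
        one_smul := fun d => Subtype.ext (show (1 : G) * d * (1 : G)⁻¹ = d by group)
        mul_smul := fun y y' d => Subtype.ext
          (show ((y : G) * y') * d * ((y : G) * y')⁻¹ = y * (y' * d * (y' : G)⁻¹) * (y : G)⁻¹ by group) }
    have hstab : ∀ d : X, MulAction.stabilizer (R : Subgroup G) d = ⊥ := fun d => by
      rw [Subgroup.eq_bot_iff_forall]
      intro y hy
      by_contra hy1
      have h' : (y : G) * d * (y : G)⁻¹ = d := congrArg Subtype.val (MulAction.mem_stabilizer_iff.1 hy)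
      exact d.2.2 (hfree y y.2 (fun e => hy1 (Subtype.ext e)) d d.2.1 (mul_inv_eq_iff_eq_mul.1 h'))
    have hdiv : Nat.card R ∣ Nat.card X := by
      rw [Nat.card_congr (MulAction.selfEquivOrbitsQuotientProd (G := (R : Subgroup G)) hstab),
        Nat.card_prod]
      exact dvd_mul_left _ _
    have hX : Nat.card X = (r * (2 ^ (i + 2) - 1)) * Nat.card Z := by
      have h1 : Nat.card X = ((D : Set G) \ (Z : Set G)).ncard := rfl
      rw [h1, Set.ncard_diff (fun z hz => (Subgroup.mem_inf.1 hz).1)]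
      show Nat.card D - Nat.card Z = _
      rw [hm, show 2 * (i + 2) = (i + 2) * 2 by ring, pow_mul, hreq,
        show (2 ^ (i + 2) + 1) * (2 ^ (i + 2) - 1) = (2 ^ (i + 2)) ^ 2 - 1 by
          rw [← one_pow 2, Nat.sq_sub_sq, one_pow], Nat.sub_mul, one_mul]
    rw [hX, mul_assoc] at hdiv
    refine Nat.Coprime.dvd_of_dvd_mul_right ?_ hdiv
    obtain ⟨b, hb⟩ := R.2.exists_card_eq
    rw [hb]
    refine Nat.Coprime.pow_left _ (Nat.Coprime.mul_right (hr.coprime_iff_not_dvd.2 fun hd => ?_)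
      (hr.coprime_iff_not_dvd.2 fun hd => hrq (hd.trans hZq)))
    have h1 : 2 ≤ 2 ^ (i + 2) := Nat.le_self_pow (by omega) 2
    have := Nat.le_of_dvd (by omega) hd
    omega
  have hbound : h + 1 ≤ 2 * (2 ^ (i + 2) + 1) := by
    rw [ho, ← hreq]
    exact Nat.mul_le_mul_left 2 (Nat.le_of_dvd hr.pos (hRdvd.trans hRr))
  have hq3 : 3 ≤ q := by
    obtain ⟨k, hk⟩ := hqodd
    have := hq.out.two_le
    omega
  have hn2' : n / 2 = 2 ^ (i + 1) := by rw [← hpm, pow_succ]; omega
  rw [hh, hn2'] at hbound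
  obtain rfl : i = 0 := by
    by_contra hi
    have h1 : i + 3 ≤ 2 ^ (i + 1) := by
      obtain ⟨l, rfl⟩ : ∃ l, i = l + 1 := ⟨i - 1, by omega⟩
      clear * -
      induction l with
      | zero => norm_num
      | succ l ih => rw [pow_succ (2 : ℕ) (l + 1 + 1)]; omega
    have h3 : 3 ^ (i + 3) ≤ q ^ 2 ^ (i + 1) :=
      (Nat.pow_le_pow_right (by norm_num) h1).trans (Nat.pow_le_pow_left hq3 _)
    have h4 : 2 ^ (i + 2) ≤ 3 ^ (i + 2) := Nat.pow_le_pow_left (by norm_num) _
    have h5 : 1 ≤ 3 ^ (i + 2) := Nat.one_le_pow _ _ (by norm_num)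
    have h6 : 3 ^ (i + 3) = 3 * 3 ^ (i + 2) := pow_succ' 3 (i + 2)
    omega
  norm_num at hbound hpm hm hn2
  have hq3' : q = 3 := by
    by_contra hne3
    have : 4 * 4 ≤ q * q := Nat.mul_le_mul (by omega) (by omega)
    rw [pow_two] at hbound
    omega
  refine ⟨hq3', hpm.symm, ?_⟩
  subst hq3'
  have hpdvd : 2 ∣ Nat.card Z := by
    obtain ⟨P0, hP0, hP0Z, -⟩ := h2.exists_center_prime hne (isCyclic_normal_abelian ht Z hzc hρ)
    exact hP0 ▸ Subgroup.card_dvd_of_le hP0Z
  calc 32 ∣ 16 * Nat.card Z := by omega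
    _ = Nat.card D := hm.symm
    _ ∣ Nat.card G := Subgroup.card_subgroup_dvd_card D

end Cfsg.Agent.Lib.SolvLinear
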