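import Mathlib

/-!
# Abelian normal subgroups of linear groups transitive on nonzero vectors

The subalgebra spanned by an abelian normal subgroup is a finite field, over which the group
acts semilinearly.
-/

set_option autoImplicit false

namespace Cfsg.Agent.Lib.SolvLinear

variable {q : ℕ} [Fact q.Prime] {V : Type*} [AddCommGroup V] [Module (ZMod q) V]
  {G : Type*} [Group G] (ρ : G →* (V ≃ₗ[ZMod q] V))

/-- The action as a monoid homomorphism to the endomorphisms. -/
def endHom : G →* Module.End (ZMod q) V where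
  toFun g := (ρ g).toLinearMap
  map_one' := by simp; rfl
  map_mul' g h := by simp [Module.End.mul_eq_comp]

theorem endHom_apply (g : G) (v : V) : endHom ρ g v = ρ g v := rfl

theorem endHom_injective (hρ : Function.Injective ρ) : Function.Injective (endHom ρ) :=
  fun _ _ h => hρ (LinearEquiv.toLinearMap_injective h)

/-- Transitivity on nonzero vectors. -/
def IsVecTransitive : Prop := ∀ v w : V, v ≠ 0 → w ≠ 0 → ∃ g : G, ρ g v = w

/-- The subalgebra spanned by a subgroup. -/
def alg (A : Subgroup G) : Subalgebra (ZMod q) (Module.End (ZMod q) V) :=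
  Algebra.adjoin (ZMod q) (endHom ρ '' A)

theorem endHom_mem_alg {A : Subgroup G} {a : G} (ha : a ∈ A) : endHom ρ a ∈ alg ρ A :=
  Algebra.subset_adjoin ⟨a, ha, rfl⟩

theorem alg_commute_of_commute {A : Subgroup G} {T : Module.End (ZMod q) V}
    (hT : ∀ a ∈ A, Commute T (endHom ρ a)) {c : Module.End (ZMod q) V} (hc : c ∈ alg ρ A) :
    Commute T c := by
  refine Algebra.adjoin_induction ?_ ?_ ?_ ?_ hc
  · rintro _ ⟨a, ha, rfl⟩
    exact hT a ha
  · exact fun r => Algebra.commute_algebraMap_right r T
  · exact fun _ _ _ _ h h' => h.add_right h'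
  · exact fun _ _ _ _ h h' => h.mul_right h'

theorem alg_commute {A : Subgroup G} (hA : IsMulCommutative A) {c d : Module.End (ZMod q) V}
    (hc : c ∈ alg ρ A) (hd : d ∈ alg ρ A) : Commute c d := by
  refine alg_commute_of_commute ρ (fun a ha => ?_) hd
  refine (alg_commute_of_commute ρ (fun b hb => ?_) hc).symm
  exact Commute.map (show Commute a b from congrArg Subtype.val (hA.is_comm.comm ⟨a, ha⟩ ⟨b, hb⟩))
    (endHom ρ)

theorem conj_mem_alg {A : Subgroup G} [hA : A.Normal] (g : G) {c : Module.End (ZMod q) V}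
    (hc : c ∈ alg ρ A) : endHom ρ g * c * endHom ρ g⁻¹ ∈ alg ρ A := by
  refine Algebra.adjoin_induction (p := fun c _ => endHom ρ g * c * endHom ρ g⁻¹ ∈ alg ρ A)
    ?_ ?_ ?_ ?_ hc
  · rintro _ ⟨a, ha, rfl⟩
    rw [← map_mul, ← map_mul]
    exact endHom_mem_alg ρ (hA.conj_mem a ha g)
  · intro r
    rw [← Algebra.commutes, mul_assoc, ← map_mul, mul_inv_cancel, map_one, mul_one]
    exact Subalgebra.algebraMap_mem _ r
  · intro x y _ _ h h'
    rw [mul_add, add_mul]
    exact add_mem h h'
  · intro x y _ _ h h'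
    have : endHom ρ g * (x * y) * endHom ρ g⁻¹ =
        (endHom ρ g * x * endHom ρ g⁻¹) * (endHom ρ g * y * endHom ρ g⁻¹) := by
      simp only [mul_assoc]
      rw [← mul_assoc (endHom ρ g⁻¹) (endHom ρ g), ← map_mul, inv_mul_cancel, map_one, one_mul]
    rw [this]
    exact mul_mem h h'

/-- In a finite monoid some power of an element is idempotent. -/
theorem exists_pow_idempotent {M : Type*} [Monoid M] [Finite M] (a : M) :
    ∃ N : ℕ, 0 < N ∧ a ^ N * a ^ N = a ^ N := by
  obtain ⟨i, j, hij, h⟩ := Finite.exists_ne_map_eq_of_infinite (fun n : ℕ => a ^ n)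
  wlog hlt : i < j generalizing i j
  · exact this j i hij.symm h.symm (by omega)
  obtain ⟨d, hd, rfl⟩ : ∃ d, 0 < d ∧ j = i + d := ⟨j - i, by omega, by omega⟩
  have key : ∀ s t, a ^ (i + t + d * s) = a ^ (i + t) := by
    intro s
    induction s with
    | zero => simp
    | succ s ih =>
      intro t
      rw [show i + t + d * (s + 1) = i + (t + d) + d * s by ring, ih,
        show i + (t + d) = (i + d) + t by ring, pow_add, ← h, ← pow_add]
  have hN : i ≤ d * (i + 1) := (Nat.le_succ i).trans (Nat.le_mul_of_pos_left _ hd)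
  refine ⟨d * (i + 1), Nat.mul_pos hd (by omega), ?_⟩
  obtain ⟨t, ht⟩ := Nat.exists_eq_add_of_le hN
  rw [← pow_add]
  nth_rewrite 1 [ht]
  rw [key, ← ht]

variable [Finite V] {ρ}

open scoped Classical in

theorem eq_zero_or_isUnit (ht : IsVecTransitive ρ) (A : Subgroup G) [A.Normal]
    (hA : IsMulCommutative A) {a : Module.End (ZMod q) V} (ha : a ∈ alg ρ A) :
    a = 0 ∨ ∃ b ∈ alg ρ A, a * b = 1 := by
  let ann : V → Set (Module.End (ZMod q) V) := fun v => {c | c ∈ alg ρ A ∧ c v = 0}
  haveI : Finite (Module.End (ZMod q) V) :=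
    Finite.of_injective (fun f : Module.End (ZMod q) V => ⇑f) DFunLike.coe_injective
  have hcard : ∀ v w : V, v ≠ 0 → w ≠ 0 → (ann v).ncard ≤ (ann w).ncard := by
    intro v w hv hw
    obtain ⟨g, hg⟩ := ht v w hv hw
    refine Set.ncard_le_ncard_of_injOn (fun c => endHom ρ g * c * endHom ρ g⁻¹) ?_ ?_ (Set.toFinite _)
    · rintro c ⟨hc, hcv⟩
      refine ⟨conj_mem_alg ρ g hc, ?_⟩
      rw [← hg]
      simp only [Module.End.mul_apply, endHom_apply]
      rw [map_inv]
      show ρ g (c ((ρ g).symm (ρ g v))) = 0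
      rw [LinearEquiv.symm_apply_apply, hcv, map_zero]
    · intro c _ d _ h
      have := congrArg (fun e => endHom ρ g⁻¹ * e * endHom ρ g) h
      simpa [mul_assoc, ← map_mul, ← mul_assoc (endHom ρ g⁻¹)] using this
  have heq : ∀ v w : V, v ≠ 0 → w ≠ 0 → ann v ⊆ ann w → ann v = ann w := fun v w hv hw h =>
    Set.eq_of_subset_of_ncard_le h (hcard w v hw hv) (Set.toFinite _)
  have hcomm : ∀ c d, c ∈ alg ρ A → d ∈ alg ρ A → ∀ v, c (d v) = d (c v) := fun c d hc hd v =>
    LinearMap.congr_fun (alg_commute ρ hA hc hd) v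
  obtain ⟨N, hN, he⟩ := exists_pow_idempotent (a : Module.End (ZMod q) V)
  have hemem : a ^ N ∈ alg ρ A := pow_mem ha N
  by_cases he1 : a ^ N = 1
  · obtain ⟨M, rfl⟩ : ∃ M, N = M + 1 := ⟨N - 1, by omega⟩
    exact Or.inr ⟨a ^ M, pow_mem ha M, by rw [← pow_succ', he1]⟩
  have he0 : a ^ N = 0 := by
    by_contra h0
    set e := a ^ N
    obtain ⟨x, hx⟩ : ∃ x, e x ≠ 0 := by
      by_contra hc
      push Not at hc
      exact h0 (LinearMap.ext hc)
    obtain ⟨y, hy⟩ : ∃ y, e y ≠ y := by
      by_contra hc
      push Not at hc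
      exact he1 (LinearMap.ext hc)
    have hev : ∀ z, e (e z) = e z := LinearMap.congr_fun he
    set v := e x
    set w := y - e y
    have hw : e w = 0 := by simp [w, hev]
    have hw0 : w ≠ 0 := sub_ne_zero.2 (Ne.symm hy)
    have hv : e v = v := hev x
    have hvw : v + w ≠ 0 := by
      intro h
      have := congrArg e h
      rw [map_add, hv, hw, add_zero, map_zero] at this
      exact hx this
    have hsub : ann (v + w) ⊆ ann v := by
      rintro c ⟨hc, h⟩
      refine ⟨hc, ?_⟩
      have h1 := congrArg e h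
      rwa [← hcomm c e hc hemem, map_add, hv, hw, add_zero, map_zero] at h1
    have hmem : (1 - e) ∈ ann v := ⟨sub_mem (one_mem _) hemem, by simp [hv]⟩
    rw [← heq _ _ hvw hx hsub] at hmem
    have := hmem.2
    simp [hv, hw] at this
    exact hw0 this
  left
  refine LinearMap.ext fun v => ?_
  by_contra hne
  have hv : v ≠ 0 := fun h => hne (by simp [h])
  have hex : ∃ j, (a ^ j) v = 0 := ⟨N, by rw [he0]; rfl⟩
  have hspec := Nat.find_spec hex
  obtain ⟨i, hi⟩ : ∃ i, Nat.find hex = i + 1 := by
    refine Nat.exists_eq_succ_of_ne_zero fun h0 => hv ?_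
    simpa [h0, pow_zero] using hspec
  rw [hi, pow_succ] at hspec
  have hmem : a ^ i ∈ ann (a v) := ⟨pow_mem ha i, hspec⟩
  rw [← heq v (a v) hv hne fun c hc => ⟨hc.1, by rw [hcomm c a hc.1 ha, hc.2, map_zero]⟩] at hmem
  exact Nat.find_min hex (by omega) hmem.2

theorem isField_alg [Nontrivial V] (ht : IsVecTransitive ρ) (A : Subgroup G) [A.Normal]
    (hA : IsMulCommutative A) : IsField (alg ρ A) where
  exists_pair_ne := ⟨0, 1, zero_ne_one⟩
  mul_comm x y := Subtype.ext (alg_commute ρ hA x.2 y.2)
  mul_inv_cancel {x} hx := by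
    obtain h | ⟨b, hb, h⟩ := eq_zero_or_isUnit ht A hA x.2
    · exact absurd (Subtype.ext h) hx
    · exact ⟨⟨b, hb⟩, Subtype.ext h⟩

variable (ρ) in
/-- Conjugation as a homomorphism to the automorphisms of the subalgebra of a normal subgroup. -/
def conjAut (A : Subgroup G) [A.Normal] : G →* (alg ρ A ≃ₐ[ZMod q] alg ρ A) where
  toFun g :=
    { toFun := fun c => ⟨endHom ρ g * c * endHom ρ g⁻¹, conj_mem_alg ρ g c.2⟩
      invFun := fun c => ⟨endHom ρ g⁻¹ * c * endHom ρ g, by
        simpa using conj_mem_alg ρ g⁻¹ c.2⟩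
      left_inv := fun c => Subtype.ext <| by
        simp only [mul_assoc]
        rw [← map_mul, inv_mul_cancel, map_one, mul_one, ← mul_assoc, ← map_mul, inv_mul_cancel,
          map_one, one_mul]
      right_inv := fun c => Subtype.ext <| by
        simp only [mul_assoc]
        rw [← map_mul, mul_inv_cancel, map_one, mul_one, ← mul_assoc, ← map_mul, mul_inv_cancel,
          map_one, one_mul]
      map_mul' := fun c d => Subtype.ext <| by
        simp only [MulMemClass.coe_mul, mul_assoc]
        rw [← mul_assoc (endHom ρ g⁻¹) (endHom ρ g), ← map_mul, inv_mul_cancel, map_one, one_mul]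
      map_add' := fun c d => Subtype.ext <| by simp [mul_add, add_mul]
      commutes' := fun r => Subtype.ext <| by
        simp only [Subalgebra.coe_algebraMap]
        rw [← Algebra.commutes, mul_assoc, ← map_mul, mul_inv_cancel, map_one, mul_one] }
  map_one' := AlgEquiv.ext fun c => Subtype.ext <| by simp
  map_mul' g h := AlgEquiv.ext fun c => Subtype.ext <| by simp [mul_assoc]

theorem conjAut_coe (A : Subgroup G) [A.Normal] (g : G) (c : alg ρ A) :
    ((conjAut ρ A g c : alg ρ A) : Module.End (ZMod q) V) = endHom ρ g * c * endHom ρ g⁻¹ := rfl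

theorem conjAut_eq_one_iff (hρ : Function.Injective ρ) (A : Subgroup G) [A.Normal] (g : G) :
    conjAut ρ A g = 1 ↔ ∀ a ∈ A, g * a = a * g := by
  constructor
  · intro h a ha
    have h1 := congrArg Subtype.val (AlgEquiv.congr_fun h ⟨_, endHom_mem_alg ρ ha⟩)
    rw [conjAut_coe, ← map_mul, ← map_mul] at h1
    have h2 : g * a * g⁻¹ = a := endHom_injective ρ hρ h1
    calc g * a = g * a * g⁻¹ * g := by group
      _ = a * g := by rw [h2]
  · intro h
    refine AlgEquiv.ext fun c => Subtype.ext ?_
    have : Commute (endHom ρ g) (c : Module.End (ZMod q) V) :=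
      alg_commute_of_commute ρ (fun a ha => Commute.map (h a ha) (endHom ρ)) c.2
    rw [conjAut_coe, this.eq, mul_assoc, ← map_mul, mul_inv_cancel, map_one, mul_one]
    rfl

/-- The degree of the field of an abelian normal subgroup. -/
noncomputable def degree (ρ : G →* (V ≃ₗ[ZMod q] V)) (A : Subgroup G) : ℕ :=
  Module.finrank (ZMod q) (alg ρ A)

section
variable [Nontrivial V] (ht : IsVecTransitive ρ) (A : Subgroup G) [A.Normal]
  (hA : IsMulCommutative A)
include ht hA

theorem natCard_alg : Nat.card (alg ρ A) = q ^ degree ρ A := by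
  haveI : Finite (Module.End (ZMod q) V) :=
    Finite.of_injective (fun f : Module.End (ZMod q) V => ⇑f) DFunLike.coe_injective
  rw [degree, Module.natCard_eq_pow_finrank (K := ZMod q), Nat.card_zmod]

theorem degree_pos : 0 < degree ρ A := by
  haveI : Finite (Module.End (ZMod q) V) :=
    Finite.of_injective (fun f : Module.End (ZMod q) V => ⇑f) DFunLike.coe_injective
  exact Module.finrank_pos

theorem degree_dvd : degree ρ A ∣ Module.finrank (ZMod q) V := by
  letI := (isField_alg ht A hA).toField
  exact Dvd.intro _ (Module.finrank_mul_finrank (ZMod q) (alg ρ A) V)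

theorem natCard_dvd_degree [Finite G] (hρ : Function.Injective ρ) : Nat.card A ∣ q ^ degree ρ A - 1 := by
  haveI : Finite (Module.End (ZMod q) V) :=
    Finite.of_injective (fun f : Module.End (ZMod q) V => ⇑f) DFunLike.coe_injective
  let f : A →* alg ρ A :=
    { toFun := fun a => ⟨endHom ρ a, endHom_mem_alg ρ a.2⟩
      map_one' := Subtype.ext (map_one _)
      map_mul' := fun a b => Subtype.ext (map_mul (endHom ρ) _ _) }
  have hf : Function.Injective f.toHomUnits := fun a b h =>
    Subtype.ext (endHom_injective ρ hρ (congrArg Subtype.val (congrArg Units.val h)))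
  refine (Subgroup.card_dvd_of_injective f.toHomUnits hf).trans ?_
  rw [← natCard_alg ht A hA]
  letI := (isField_alg ht A hA).toField
  rw [Nat.card_units]

theorem isCyclic_normal_abelian [Finite G] (hρ : Function.Injective ρ) : IsCyclic A := by
  haveI : Finite (Module.End (ZMod q) V) :=
    Finite.of_injective (fun f : Module.End (ZMod q) V => ⇑f) DFunLike.coe_injective
  letI := (isField_alg ht A hA).toField
  refine isCyclic_of_subgroup_isDomain (R := alg ρ A)
    { toFun := fun a => ⟨endHom ρ a, endHom_mem_alg ρ a.2⟩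
      map_one' := Subtype.ext (map_one _)
      map_mul' := fun a b => Subtype.ext (map_mul (endHom ρ) _ _) } fun a b h =>
    Subtype.ext (endHom_injective ρ hρ (congrArg Subtype.val h))

theorem card_aut_le : Nat.card (alg ρ A ≃ₐ[ZMod q] alg ρ A) ≤ degree ρ A := by
  haveI : Finite (Module.End (ZMod q) V) :=
    Finite.of_injective (fun f : Module.End (ZMod q) V => ⇑f) DFunLike.coe_injective
  letI := (isField_alg ht A hA).toField
  rw [Nat.card_eq_fintype_card]
  exact AlgEquiv.card_le

/-- An element of prime order exceeding the degree centralises the subgroup. -/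
theorem commute_of_prime_order [Finite G] (hρ : Function.Injective ρ) {x : G} {r : ℕ} (hr : r.Prime)
    (hx : x ^ r = 1) (hlt : degree ρ A < r) : ∀ a ∈ A, x * a = a * x := by
  rw [← conjAut_eq_one_iff hρ]
  have h1 : orderOf (conjAut ρ A x) ∣ r := orderOf_dvd_of_pow_eq_one (by rw [← map_pow, hx, map_one])
  rcases (Nat.dvd_prime hr).1 h1 with h | h
  · exact orderOf_eq_one_iff.1 h
  · exfalso
    haveI : Finite (Module.End (ZMod q) V) :=
      Finite.of_injective (fun f : Module.End (ZMod q) V => ⇑f) DFunLike.coe_injective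
    haveI : Finite (alg ρ A ≃ₐ[ZMod q] alg ρ A) :=
      Finite.of_injective (fun e : alg ρ A ≃ₐ[ZMod q] alg ρ A => ⇑e) DFunLike.coe_injective
    have := (orderOf_le_card (x := conjAut ρ A x)).trans (card_aut_le ht A hA)
    omega

/-- If the field of `A` has full degree, the group is semilinear. -/
theorem semilinear_of_degree_eq (hk : degree ρ A = Module.finrank (ZMod q) V) :
    ∃ (F : Type) (_ : Field F) (_ : Fintype F) (e : V ≃+ F),
      ∀ g : G, ∃ (a : F) (σ : F ≃+* F), ∀ v : V, e (ρ g v) = a * σ (e v) := by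
  haveI : Finite (Module.End (ZMod q) V) :=
    Finite.of_injective (fun f : Module.End (ZMod q) V => ⇑f) DFunLike.coe_injective
  letI := (isField_alg ht A hA).toField
  obtain ⟨v0, hv0⟩ := exists_ne (0 : V)
  let f : alg ρ A →+ V :=
    { toFun := fun c => (c : Module.End (ZMod q) V) v0
      map_zero' := rfl
      map_add' := fun _ _ => rfl }
  have hf : Function.Injective f := by
    rw [injective_iff_map_eq_zero]
    intro c hc
    rcases eq_zero_or_isUnit ht A hA c.2 with h | ⟨b, hb, hb1⟩
    · exact Subtype.ext h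
    · exfalso
      apply hv0
      have h2 : (b * (c : Module.End (ZMod q) V)) v0 = 0 := by
        rw [Module.End.mul_apply]
        rw [show (c : Module.End (ZMod q) V) v0 = 0 from hc, map_zero]
      rwa [(alg_commute ρ hA hb c.2).eq, hb1] at h2
  have hbij : Function.Bijective f := hf.bijective_of_nat_card_le <| by
    rw [natCard_alg ht A hA, hk, Module.natCard_eq_pow_finrank (K := ZMod q), Nat.card_zmod]
  let W : Type := {i : Fin (Nat.card (alg ρ A)) // True}
  let eF : W ≃ alg ρ A := (Equiv.subtypeUnivEquiv fun _ => trivial).trans (Finite.equivFin _).symm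
  letI : Field W := eF.field
  haveI : Fintype W := Fintype.ofFinite W
  let E : alg ρ A ≃+* W := eF.ringEquiv.symm
  let f' : alg ρ A ≃+ V := AddEquiv.ofBijective f hbij
  refine ⟨W, inferInstance, inferInstance, f'.symm.trans E.toAddEquiv,
    fun g => ⟨E (f'.symm (ρ g v0)), (E.symm.trans (conjAut ρ A g).toRingEquiv).trans E, fun v => ?_⟩⟩
  obtain ⟨c, rfl⟩ := hbij.2 v
  have h1 : ρ g (f c) = ((conjAut ρ A g c : alg ρ A) : Module.End (ZMod q) V) (ρ g v0) := by
    rw [conjAut_coe]
    simp only [Module.End.mul_apply, endHom_apply, map_inv]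
    show ρ g (f c) = ρ g ((c : Module.End (ZMod q) V) ((ρ g).symm (ρ g v0)))
    rw [LinearEquiv.symm_apply_apply]
    rfl
  obtain ⟨d, hd⟩ := hbij.2 (ρ g v0)
  have h2 : ρ g (f c) = f (conjAut ρ A g c * d) := by rw [h1, ← hd]; rfl
  have hs : ∀ z, f'.symm (f z) = z := fun z => f'.symm_apply_apply z
  simp only [AddEquiv.trans_apply, RingEquiv.toAddEquiv_eq_coe, RingEquiv.coe_toAddEquiv, h2, hs,
    ← hd, RingEquiv.coe_trans, Function.comp_apply, RingEquiv.symm_apply_apply, ← map_mul]
  rw [mul_comm]
  rfl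

end

end Cfsg.Agent.Lib.SolvLinear
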