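import Cfsg.Agent.Lib.SolvLinear.Field
import Cfsg.Agent.Lib.SolvLinear.ClassTwo
import Cfsg.Agent.Lib.Coprime.Basic
import Cfsg.Agent.Lib.Core.Fitting

/-!
# Class two subgroups of solvable linear groups transitive on nonzero vectors
-/

set_option autoImplicit false

namespace Cfsg.Agent.Lib.SolvLinear

open scoped commutatorElement

variable {G : Type*} [Group G]

/-- A nonabelian normal `p`-subgroup all of whose proper normal subgroups are central in it has
class two with central `p`-th powers. -/
theorem isClassTwo_of_forall [Finite G] {p : ℕ} [hp : Fact p.Prime] {D : Subgroup G} (hD : D.Normal)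
    (hpD : IsPGroup p D) (hne : D ≠ ⊥)
    (h : ∀ U : Subgroup G, U.Normal → U ≤ D → U ≠ D → U ≤ Subgroup.centralizer (D : Set G)) :
    IsClassTwo p D := by
  have hlt : ⁅D, D⁆ < D :=
    Cfsg.Agent.Lib.Coprime.commutator_lt_of_isPGroup hpD hpD Subgroup.le_normalizer hne
  have h1 : ∀ a ∈ D, ∀ b ∈ D, a * b * a⁻¹ * b⁻¹ ∈ D ⊓ Subgroup.centralizer (D : Set G) :=
    fun a ha b hb => by
      have hm : ⁅a, b⁆ ∈ ⁅D, D⁆ := Subgroup.commutator_mem_commutator ha hb
      exact ⟨hlt.le hm, h _ inferInstance hlt.le hlt.ne hm⟩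
  let P : Set G := {y | ∃ d ∈ D, d ^ p = y}
  let U := Subgroup.normalClosure P ⊔ ⁅D, D⁆
  have hPD : Subgroup.normalClosure P ≤ D :=
    Subgroup.normalClosure_le_normal (by rintro _ ⟨d, hd, rfl⟩; exact D.pow_mem hd p)
  have hUD : U ≠ D := by
    intro hU
    haveI : Nontrivial D := (Subgroup.nontrivial_iff_ne_bot D).2 hne
    let M : Subgroup G :=
      (((powMonoidHom p : Abelianization D →* Abelianization D).range).comap Abelianization.of).map
        D.subtype
    have hle : U ≤ M := by
      refine sup_le ((Subgroup.closure_le _).2 fun y hy => ?_) ?_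
      · obtain ⟨_, ⟨d, hd, rfl⟩, hc⟩ := Group.mem_conjugatesOfSet_iff.1 hy
        obtain ⟨g, rfl⟩ := isConj_iff.1 hc
        exact ⟨⟨g * d * g⁻¹, hD.conj_mem d hd g⟩ ^ p,
          ⟨Abelianization.of ⟨g * d * g⁻¹, hD.conj_mem d hd g⟩, (map_pow _ _ _).symm⟩, by simp [conj_pow]⟩
      · rw [Subgroup.commutator_le]
        intro a ha b hb
        refine ⟨⁅(⟨a, ha⟩ : D), ⟨b, hb⟩⁆, ⟨1, ?_⟩, rfl⟩
        rw [map_one, map_commutatorElement, commutatorElement_eq_one_iff_mul_comm.2 (mul_comm _ _)]
    have hsurj : Function.Surjective (powMonoidHom p : Abelianization D →* Abelianization D) := by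
      intro z
      obtain ⟨d, rfl⟩ := QuotientGroup.mk_surjective z
      obtain ⟨d', hd', he⟩ := hle (hU.ge d.2)
      rw [show d' = d from Subtype.ext he] at hd'
      exact hd'
    haveI : Nontrivial (Abelianization D) := by
      by_contra hc
      rw [not_nontrivial_iff_subsingleton] at hc
      have h2 : ⁅D, D⁆ = D := by
        refine le_antisymm hlt.le fun d hd => ?_
        have h3 : (⟨d, hd⟩ : D) ∈ commutator D :=
          (QuotientGroup.eq_one_iff _).1 (@Subsingleton.elim (Abelianization D) hc _ _)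
        rw [← Subgroup.map_subtype_commutator]
        exact ⟨_, h3, rfl⟩
      exact hlt.ne h2
    have hAb : IsPGroup p (Abelianization D) := hpD.to_quotient _
    obtain ⟨k, hk⟩ := IsPGroup.iff_card.1 hAb
    have hpd : p ∣ Nat.card (Abelianization D) := by
      rw [hk]; refine dvd_pow_self p ?_
      rintro rfl
      rw [pow_zero] at hk
      exact (Finite.one_lt_card (α := Abelianization D)).ne' hk
    obtain ⟨z, hz⟩ := exists_prime_orderOf_dvd_card' p hpd
    have : z = 1 := (Finite.injective_iff_surjective.2 hsurj) (by simp [← hz, pow_orderOf_eq_one])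
    rw [this, orderOf_one] at hz
    exact hp.out.one_lt.ne hz
  have h2 : ∀ a ∈ D, a ^ p ∈ D ⊓ Subgroup.centralizer (D : Set G) := fun a ha =>
    have hm : a ^ p ∈ U := le_sup_left (a := Subgroup.normalClosure P)
      (Subgroup.subset_normalClosure ⟨a, ha, rfl⟩)
    ⟨D.pow_mem ha p, h U inferInstance (sup_le hPD hlt.le) hUD hm⟩
  refine ⟨hD, hpD, h1, h2, fun a ha b hb => ?_⟩
  have hpow : ∀ j : ℕ, a ^ j * b * (a ^ j)⁻¹ * b⁻¹ = (a * b * a⁻¹ * b⁻¹) ^ j := by
    intro j
    induction j with
    | zero => simp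
    | succ j ih =>
      rw [pow_succ', comm_mul_left (fun z hz => ?_), ih, ← pow_succ]
      exact Subgroup.mem_centralizer_iff.1
        (Subgroup.mem_inf.1 (hz ▸ h1 _ (D.pow_mem ha j) b hb)).2 a ha
  rw [← hpow p, comm_eq_one_iff]
  exact (Subgroup.mem_centralizer_iff.1 (Subgroup.mem_inf.1 (h2 a ha)).2 b hb).symm

section
variable {q : ℕ} [Fact q.Prime] {V : Type*} [AddCommGroup V] [Module (ZMod q) V] [Finite V]
  [Nontrivial V] [Finite G] {ρ : G →* (V ≃ₗ[ZMod q] V)}
  (hρ : Function.Injective ρ) (ht : IsVecTransitive ρ)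

theorem center_normal {D : Subgroup G} (hD : D.Normal) :
    (D ⊓ Subgroup.centralizer (D : Set G)).Normal := inferInstance

theorem center_comm (D : Subgroup G) :
    IsMulCommutative ↥(D ⊓ Subgroup.centralizer (D : Set G)) :=
  ⟨⟨fun a b => Subtype.ext (Subgroup.mem_centralizer_iff.1 b.2.2 a a.2.1)⟩⟩

include hρ ht in
/-- Dimension bound for a class two normal subgroup, and scalarity of its centraliser when the
bound is attained. -/
theorem classTwo_bound {p : ℕ} [hp : Fact p.Prime] {D : Subgroup G} (h : IsClassTwo p D)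
    (hne : ¬ D ≤ Subgroup.centralizer (D : Set G)) :
    ∃ m : ℕ, 1 ≤ m ∧
      Nat.card D = p ^ (2 * m) * Nat.card ↥(D ⊓ Subgroup.centralizer (D : Set G)) ∧
      p ^ m * degree ρ (D ⊓ Subgroup.centralizer (D : Set G)) ≤ Module.finrank (ZMod q) V ∧
      p ∣ q ^ degree ρ (D ⊓ Subgroup.centralizer (D : Set G)) - 1 ∧
      (p ^ m * degree ρ (D ⊓ Subgroup.centralizer (D : Set G)) = Module.finrank (ZMod q) V →
        Nat.card ↥(Subgroup.centralizer (D : Set G)) ∣
          q ^ degree ρ (D ⊓ Subgroup.centralizer (D : Set G)) - 1 ∧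
        ∀ y ∈ Subgroup.centralizer (D : Set G),
          endHom ρ y ∈ alg ρ (D ⊓ Subgroup.centralizer (D : Set G))) := by
  classical
  haveI := h.normal
  set Z := D ⊓ Subgroup.centralizer (D : Set G) with hZdef
  have hZc : IsMulCommutative Z := center_comm D
  have hcyc : IsCyclic Z := isCyclic_normal_abelian ht Z hZc hρ
  obtain ⟨P0, hP0, hP0Z, hcomm⟩ := h.exists_center_prime hne hcyc
  obtain ⟨m, hm⟩ := card_eq_pow_mul_center hp.out P0 hP0 D
    (fun d hd => Subgroup.mem_centralizer_iff.2 fun z hz =>
      (Subgroup.mem_centralizer_iff.1 (Subgroup.mem_inf.1 (hP0Z hz)).2 d hd).symm) hcomm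
  have hm1 : 1 ≤ m := by
    by_contra hm0
    obtain rfl : m = 0 := by omega
    rw [mul_zero, pow_zero, one_mul] at hm
    have : Z = D := Subgroup.eq_of_le_of_card_ge inf_le_left hm.le
    exact hne fun x hx => (Subgroup.mem_inf.1 (this.ge hx)).2
  refine ⟨m, hm1, hm, ?_⟩
  haveI : Finite (Module.End (ZMod q) V) :=
    Finite.of_injective (fun f : Module.End (ZMod q) V => ⇑f) DFunLike.coe_injective
  letI := (isField_alg ht Z hZc).toField
  let T : (y : G) → (∀ z ∈ Z, y * z = z * y) → Module.End (alg ρ Z) V := fun y hy =>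
    { toFun := endHom ρ y
      map_add' := map_add _
      map_smul' := fun c v => LinearMap.congr_fun
        (alg_commute_of_commute ρ (fun z hz => Commute.map (hy z hz) (endHom ρ)) c.2).eq v }
  have hDz : ∀ d ∈ D, ∀ z ∈ Z, d * z = z * d := fun d hd z hz =>
    Subgroup.mem_centralizer_iff.1 hz.2 d hd
  let χ : G → alg ρ Z := fun z => if hz : z ∈ Z then ⟨endHom ρ z, endHom_mem_alg ρ hz⟩ else 0
  have hχ : ∀ z ∈ Z, ((χ z : alg ρ Z) : Module.End (ZMod q) V) = endHom ρ z := fun z hz => by
    simp [χ, hz]
  let Q := ↥D ⧸ Z.subgroupOf D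
  let s : Q → D := Quotient.out
  let Ts : Q → Module.End (alg ρ Z) V := fun i => T (s i : G) (hDz _ (s i).2)
  have hindep : LinearIndependent (alg ρ Z) Ts := by
    rw [linearIndependent_iff']
    intro S
    induction hS : S.card using Nat.strong_induction_on generalizing S with
    | _ N ih =>
      subst hS
      intro g hg i hi
      by_cases hone : ∀ j ∈ S, j = i
      · rw [Finset.eq_singleton_iff_unique_mem.2 ⟨hi, hone⟩, Finset.sum_singleton] at hg
        rcases smul_eq_zero.1 hg with h0 | h0
        · exact h0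
        · exfalso
          obtain ⟨v, hv⟩ := exists_ne (0 : V)
          have h1 := LinearMap.congr_fun h0 v
          exact hv ((ρ (s i : G)).map_eq_zero_iff.1 h1)
      · push Not at hone
        obtain ⟨j, hj, hji⟩ := hone
        -- an element of `D` distinguishing the two cosets
        obtain ⟨e, he, hdist⟩ : ∃ e ∈ D, e * (s i : G) * e⁻¹ * (s i : G)⁻¹ ≠
            e * (s j : G) * e⁻¹ * (s j : G)⁻¹ := by
          by_contra hc
          push Not at hc
          apply hji
          have hs' : ∀ i, ((s i : D) : Q) = i := Quotient.out_eq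
          rw [← hs' i, ← hs' j, QuotientGroup.eq, Subgroup.mem_subgroupOf]
          refine ⟨((s j)⁻¹ * s i).2, Subgroup.mem_centralizer_iff.2 fun e he => ?_⟩
          have h1 := hc e he
          set a := (s i : G)
          set b := (s j : G)
          have hda : a ∈ D := (s i).2
          have hdb : b ∈ D := (s j).2
          show e * (b⁻¹ * a) = b⁻¹ * a * e
          have h2 : e * a * e⁻¹ = (e * b * e⁻¹ * b⁻¹) * a := by rw [← h1]; group
          have h3 : Commute (e * b * e⁻¹ * b⁻¹) b⁻¹ :=
            (show Commute b (e * b * e⁻¹ * b⁻¹) from hDz b hdb _ (h.comm_mem e he b hdb)).symm.inv_right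
          calc e * (b⁻¹ * a) = (e * b⁻¹ * e⁻¹) * (e * a * e⁻¹) * e := by group
            _ = (e * b⁻¹ * e⁻¹) * ((e * b * e⁻¹ * b⁻¹) * a) * e := by rw [h2]
            _ = b⁻¹ * a * e := by group
        let c : Q → alg ρ Z := fun l => χ (e * (s l : G) * e⁻¹ * (s l : G)⁻¹)
        have hTe : ∀ l, T e (hDz e he) * Ts l = c l • (Ts l * T e (hDz e he)) := fun l => by
          refine LinearMap.ext fun v => ?_
          show endHom ρ e (endHom ρ (s l : G) v) =
            ((c l : alg ρ Z) : Module.End (ZMod q) V) (endHom ρ (s l : G) (endHom ρ e v))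
          rw [hχ _ (h.comm_mem e he _ (s l).2)]
          rw [← Module.End.mul_apply, ← map_mul, ← Module.End.mul_apply, ← map_mul,
            ← Module.End.mul_apply, ← map_mul]
          congr 2
          group
        have hsum : ∑ l ∈ S, (g l * (c l - c j)) • Ts l = 0 := by
          have h1 : T e (hDz e he) * (∑ l ∈ S, g l • Ts l) = 0 := by rw [hg, mul_zero]
          rw [Finset.mul_sum] at h1
          have h2 : (∑ l ∈ S, (g l * c l) • Ts l) * T e (hDz e he) = 0 := by
            rw [← h1, Finset.sum_mul]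
            refine Finset.sum_congr rfl fun l _ => ?_
            rw [mul_smul_comm, hTe, smul_mul_assoc, mul_smul]
          have h3 : ∑ l ∈ S, (g l * c l) • Ts l = 0 := by
            refine LinearMap.ext fun v => ?_
            have := LinearMap.congr_fun h2 ((ρ e).symm v)
            rw [Module.End.mul_apply] at this
            simpa [T, endHom_apply] using this
          simp only [mul_sub, sub_smul, Finset.sum_sub_distrib, h3, zero_sub, neg_eq_zero]
          calc ∑ l ∈ S, (g l * c j) • Ts l = c j • ∑ l ∈ S, g l • Ts l := by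
                rw [Finset.smul_sum]
                exact Finset.sum_congr rfl fun l _ => by rw [smul_smul, mul_comm]
            _ = 0 := by rw [hg, smul_zero]
        have hsum' : ∑ l ∈ S.erase j, (g l * (c l - c j)) • Ts l = 0 := by
          rwa [← Finset.add_sum_erase _ _ hj, sub_self, mul_zero, zero_smul, zero_add] at hsum
        have := ih _ (Finset.card_erase_lt_of_mem hj) (S.erase j) rfl _ hsum' i
          (Finset.mem_erase.2 ⟨Ne.symm hji, hi⟩)
        refine (mul_eq_zero.1 this).resolve_right fun hcc => hdist ?_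
        refine endHom_injective ρ hρ ?_
        rw [← hχ _ (h.comm_mem e he _ (s i).2), ← hχ _ (h.comm_mem e he _ (s j).2)]
        exact congrArg Subtype.val (sub_eq_zero.1 hcc)
  haveI : Module.Finite (alg ρ Z) V := Module.Finite.of_finite
  have hQ : Nat.card Q = p ^ (2 * m) := by
    have h1 := Subgroup.card_eq_card_quotient_mul_card_subgroup (Z.subgroupOf D)
    rw [Nat.card_congr (Subgroup.subgroupOfEquivOfLe (show Z ≤ D from inf_le_left)).toEquiv, hm] at h1
    exact (Nat.eq_of_mul_eq_mul_right Nat.card_pos h1).symm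
  haveI : Fintype Q := Fintype.ofFinite Q
  have hle := hindep.fintype_card_le_finrank
  rw [← Nat.card_eq_fintype_card, hQ, Module.finrank_linearMap, show 2 * m = m + m by omega,
    pow_add] at hle
  set d := Module.finrank (alg ρ Z) V
  have hd : degree ρ Z * d = Module.finrank (ZMod q) V := Module.finrank_mul_finrank _ _ _
  have hpd : p ^ m ≤ d := Nat.mul_self_le_mul_self_iff.1 hle
  refine ⟨?_, ?_, fun hfull => ?_⟩
  · rw [← hd, mul_comm]
    exact Nat.mul_le_mul_left _ hpd
  · refine dvd_trans ?_ (natCard_dvd_degree ht Z hZc hρ)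
    rw [← hP0]
    exact Subgroup.card_dvd_of_le hP0Z
  have hdp : d = p ^ m := by
    rw [← hd, mul_comm] at hfull
    exact (Nat.eq_of_mul_eq_mul_left (degree_pos ht Z hZc) hfull).symm
  have htop : Submodule.span (alg ρ Z) (Set.range Ts) = ⊤ := hindep.span_eq_top_of_card_eq_finrank <| by
    rw [← Nat.card_eq_fintype_card, hQ, Module.finrank_linearMap, show Module.finrank (alg ρ Z) V = p ^ m from hdp]
    rw [show 2 * m = m + m by omega, pow_add]
  have hscal : ∀ y : G, y ∈ Subgroup.centralizer (D : Set G) → endHom ρ y ∈ alg ρ Z := by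
    intro y hy
    have hyd : ∀ d ∈ D, y * d = d * y := fun d hd => (Subgroup.mem_centralizer_iff.1 hy d hd).symm
    let Y := T y (fun z hz => hyd z hz.1)
    have hYc : ∀ M : Module.End (alg ρ Z) V, Y * M = M * Y := by
      intro M
      have hM : M ∈ Submodule.span (alg ρ Z) (Set.range Ts) := by rw [htop]; trivial
      induction hM using Submodule.span_induction with
      | mem x hx =>
        obtain ⟨l, rfl⟩ := hx
        refine LinearMap.ext fun v => ?_
        exact LinearMap.congr_fun (Commute.map (show Commute y (s l : G) from hyd _ (s l).2) (endHom ρ)).eq v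
      | zero => simp
      | add x z _ _ hx hz => rw [mul_add, add_mul, hx, hz]
      | smul a x _ hx => rw [mul_smul_comm, smul_mul_assoc, hx]
    obtain ⟨v, hv⟩ := exists_ne (0 : V)
    obtain ⟨f, hf⟩ : ∃ f : V →ₗ[alg ρ Z] (alg ρ Z), f v = 1 := by
      obtain ⟨f, hf⟩ := Module.Projective.exists_dual_ne_zero (alg ρ Z) hv
      exact ⟨(f v)⁻¹ • f, by simp [inv_mul_cancel₀ hf]⟩
    have hYv : ∀ w, Y w = f (Y v) • w := fun w => by
      have := LinearMap.congr_fun (hYc (f.smulRight w)) v
      simpa [hf] using this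
    have : endHom ρ y = (f (Y v) : Module.End (ZMod q) V) := LinearMap.ext hYv
    rw [this]
    exact (f (Y v)).2
  let F : ↥(Subgroup.centralizer (D : Set G)) →* alg ρ Z :=
    { toFun := fun y => ⟨endHom ρ y, hscal y y.2⟩
      map_one' := Subtype.ext (map_one _)
      map_mul' := fun a b => Subtype.ext (map_mul (endHom ρ) _ _) }
  refine ⟨(Subgroup.card_dvd_of_injective F.toHomUnits fun a b hab =>
    Subtype.ext (endHom_injective ρ hρ (congrArg Subtype.val (congrArg Units.val hab)))).trans ?_, hscal⟩
  rw [Nat.card_units, natCard_alg ht Z hZc]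

end

end Cfsg.Agent.Lib.SolvLinear
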